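import Mathlib
import Groth.Agent.Lib.Helper8.Depth36

/-!
# Depth along a flat local homomorphism with artinian closed fibre

If `R → S` is a flat local homomorphism of noetherian local rings with `𝔪_S ^ k ≤ 𝔪_R S`,
then `depth S = depth R`.
-/

set_option autoImplicit false

namespace Groth.Agent.Helper7.SHens

universe u

open RingTheory.Sequence LocCoh Pointwise IsLocalRing Groth.Agent.Helper8.Depth

/-- If `b ∉ J`, `𝔫 ^ k * (b) ≤ J`, there is `y ∉ J` with `𝔫 * (y) ≤ J`. -/
theorem exists_socle_of_pow_mul_le {S : Type*} [CommRing S] (n J : Ideal S) (b : S) (hb : b ∉ J)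
    (k : ℕ) (hk : ∀ c ∈ n ^ k, c * b ∈ J) : ∃ y, y ∉ J ∧ ∀ r ∈ n, r * y ∈ J := by
  classical
  have hex : ∃ j, ∀ c ∈ n ^ j, c * b ∈ J := ⟨k, hk⟩
  have h0 : Nat.find hex ≠ 0 := by
    intro h0
    have := Nat.find_spec hex
    rw [h0, pow_zero] at this
    apply hb
    simpa using this 1 (by simp)
  have hmin := Nat.find_min hex (Nat.sub_one_lt h0)
  rw [not_forall] at hmin
  obtain ⟨c, hc⟩ := hmin
  rw [Classical.not_imp] at hc
  obtain ⟨hc1, hc2⟩ := hc
  refine ⟨c * b, hc2, ?_⟩
  intro r hr
  have h1 : r * c ∈ n ^ (Nat.find hex) := by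
    have h2 : Nat.find hex = (Nat.find hex - 1) + 1 := by omega
    rw [h2, pow_succ']
    exact Ideal.mul_mem_mul hr hc1
  have h3 := Nat.find_spec hex (r * c) h1
  rwa [mul_assoc] at h3

theorem depth_eq_of_flat_of_pow_le (R S : Type u) [CommRing R] [CommRing S]
    [IsLocalRing R] [IsNoetherianRing R] [IsLocalRing S] [IsNoetherianRing S] [Algebra R S]
    [IsLocalHom (algebraMap R S)] [Module.Flat R S] (k : ℕ)
    (hm : maximalIdeal S ^ k ≤ (maximalIdeal R).map (algebraMap R S)) :
    depth S S = depth R R := by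
  have hff : Module.FaithfullyFlat R S := Module.FaithfullyFlat.of_flat_of_isLocalHom
  have htopR : maximalIdeal R • (⊤ : Submodule R R) ≠ ⊤ := smul_top_ne_top_of_local R R
  have htopS : maximalIdeal S • (⊤ : Submodule S S) ≠ ⊤ := smul_top_ne_top_of_local S S
  obtain ⟨rs, hreg, hmem, hmax, hlen⟩ := exists_maximal_isWeaklyRegular htopR
  have hreg' : IsWeaklyRegular S (rs.map (algebraMap R S)) := hreg.of_flat
  have hmS : (maximalIdeal R).map (algebraMap R S) ≤ maximalIdeal S :=
    ((IsLocalRing.local_hom_TFAE (algebraMap R S)).out 0 2).mp ‹_›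
  have hmem' : ∀ r ∈ rs.map (algebraMap R S), r ∈ maximalIdeal S := by
    intro r hr
    obtain ⟨r0, hr0, rfl⟩ := List.mem_map.mp hr
    exact hmS (Ideal.mem_map_of_mem _ (hmem r0 hr0))
  -- the maximal ideal of `R` is associated to `R / (rs)`
  have hass : maximalIdeal R ∈
      associatedPrimes R (R ⧸ (Ideal.ofList rs • (⊤ : Submodule R R))) := by
    rw [← forall_not_isSMulRegular_iff]
    intro x hx hxreg
    apply hmax x hx
    rw [isWeaklyRegular_append_iff]
    exact ⟨hreg, (isWeaklyRegular_singleton_iff _ x).mpr hxreg⟩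
  obtain ⟨-, y, hy⟩ := isAssociatedPrime_iff.mp hass
  obtain ⟨a, rfl⟩ := Submodule.Quotient.mk_surjective _ y
  have ha : a ∉ Ideal.ofList rs := by
    intro ha
    have h0 : (Submodule.Quotient.mk a : R ⧸ (Ideal.ofList rs • (⊤ : Submodule R R))) = 0 := by
      rw [Submodule.Quotient.mk_eq_zero]
      simpa using ha
    have h1 : (1 : R) ∈ maximalIdeal R := by
      rw [hy, Submodule.mem_colon_singleton, h0, smul_zero]
      exact Submodule.zero_mem _
    exact (maximalIdeal.isMaximal R).ne_top ((Ideal.eq_top_iff_one _).mpr h1)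
  have hma : ∀ r ∈ maximalIdeal R, r * a ∈ Ideal.ofList rs := by
    intro r hr
    rw [hy, Submodule.mem_colon_singleton] at hr
    have h1 : (Submodule.Quotient.mk (r • a) : R ⧸ (Ideal.ofList rs • (⊤ : Submodule R R))) = 0 := by
      rw [Submodule.Quotient.mk_smul]
      simpa using hr
    rw [Submodule.Quotient.mk_eq_zero] at h1
    simpa using h1
  -- transport to `S`
  have hb : algebraMap R S a ∉ Ideal.ofList (rs.map (algebraMap R S)) := by
    intro hb
    apply ha
    rw [← Ideal.map_ofList] at hb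
    have := Ideal.mem_comap.mpr hb
    rwa [Ideal.comap_map_eq_self_of_faithfullyFlat] at this
  have hmb : ∀ r ∈ (maximalIdeal R).map (algebraMap R S),
      r * algebraMap R S a ∈ Ideal.ofList (rs.map (algebraMap R S)) := by
    intro r hr
    rw [← Ideal.map_ofList]
    have h1 : r * algebraMap R S a ∈ (maximalIdeal R * Ideal.span {a}).map (algebraMap R S) := by
      rw [Ideal.map_mul]
      exact Ideal.mul_mem_mul hr (Ideal.mem_map_of_mem _ (Ideal.mem_span_singleton_self a))
    refine Ideal.map_mono ?_ h1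
    rw [Ideal.mul_le]
    intro r hr s hs
    obtain ⟨c, rfl⟩ := Ideal.mem_span_singleton'.mp hs
    have := Ideal.mul_mem_left _ c (hma r hr)
    convert this using 1
    ring
  obtain ⟨z, hz, hmz⟩ := exists_socle_of_pow_mul_le (maximalIdeal S)
    (Ideal.ofList (rs.map (algebraMap R S))) (algebraMap R S a) hb k
    (fun c hc => hmb c (hm hc))
  have hmax' : ∀ r ∈ maximalIdeal S, ¬ IsWeaklyRegular S (rs.map (algebraMap R S) ++ [r]) := by
    intro r hr hwr
    rw [isWeaklyRegular_append_iff, isWeaklyRegular_singleton_iff] at hwr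
    have hsr := hwr.2
    have h1 : r • (Submodule.Quotient.mk z :
        S ⧸ (Ideal.ofList (rs.map (algebraMap R S)) • (⊤ : Submodule S S))) = r • 0 := by
      rw [smul_zero, ← Submodule.Quotient.mk_smul, Submodule.Quotient.mk_eq_zero]
      simpa using hmz r hr
    have h2 := hsr h1
    rw [Submodule.Quotient.mk_eq_zero] at h2
    apply hz
    simpa using h2
  have h3 := length_eq_idealDepth_of_maximal htopS _ hreg' hmem' hmax'
  rw [List.length_map] at h3
  unfold depth
  rw [← h3, ← hlen]

end Groth.Agent.Helper7.SHens
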