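import Mathlib
import Groth.Agent.Lib.Helper7.CAlg.EtaleSection

/-!
# The filtered category of étale algebras with a section modulo an ideal
-/

open CategoryTheory TensorProduct

namespace Groth.Agent.Helper7.SHens

universe u

variable (A : Type u) [CommRing A] (Ω : Type u) [CommRing Ω] [Algebra A Ω]

/-- Étale `A`-algebras, presented as quotients of polynomial rings in finitely many variables,
together with an `A`-algebra map to `Ω`. -/
structure Nbhd : Type u where
  n : ℕ
  J : Ideal (MvPolynomial (Fin n) A)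
  etale : Algebra.Etale A (MvPolynomial (Fin n) A ⧸ J)
  sec' : (MvPolynomial (Fin n) A ⧸ J) →ₐ[A] Ω

namespace Nbhd

variable {A Ω}

/-- The underlying ring. -/
def Ring (X : Nbhd A Ω) : Type u := MvPolynomial (Fin X.n) A ⧸ X.J

noncomputable instance (X : Nbhd A Ω) : CommRing X.Ring :=
  inferInstanceAs (CommRing (MvPolynomial (Fin X.n) A ⧸ X.J))

noncomputable instance (X : Nbhd A Ω) : Algebra A X.Ring :=
  inferInstanceAs (Algebra A (MvPolynomial (Fin X.n) A ⧸ X.J))

instance (X : Nbhd A Ω) : Algebra.Etale A X.Ring := X.etale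

/-- The section. -/
noncomputable def sec (X : Nbhd A Ω) : X.Ring →ₐ[A] Ω := X.sec'

/-- Morphisms: algebra maps compatible with the sections. -/
@[ext]
structure Hom (X Y : Nbhd A Ω) where
  toAlgHom : X.Ring →ₐ[A] Y.Ring
  comm : Y.sec.comp toAlgHom = X.sec

noncomputable instance : Category (Nbhd A Ω) where
  Hom := Hom
  id X := ⟨AlgHom.id A _, AlgHom.comp_id _⟩
  comp f g := ⟨g.toAlgHom.comp f.toAlgHom, by rw [← AlgHom.comp_assoc, g.comm, f.comm]⟩

@[simp] theorem id_toAlgHom (X : Nbhd A Ω) : (𝟙 X : Hom X X).toAlgHom = AlgHom.id A _ := rfl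

@[simp] theorem comp_toAlgHom {X Y Z : Nbhd A Ω} (f : X ⟶ Y) (g : Y ⟶ Z) :
    (f ≫ g : Hom X Z).toAlgHom = (g : Hom Y Z).toAlgHom.comp (f : Hom X Y).toAlgHom := rfl

theorem hom_ext' {X Y : Nbhd A Ω} {f g : X ⟶ Y}
    (h : (f : Hom X Y).toAlgHom = (g : Hom X Y).toAlgHom) : f = g := Hom.ext h

theorem sec_hom {X Y : Nbhd A Ω} (f : X ⟶ Y) (x : X.Ring) :
    Y.sec ((f : Hom X Y).toAlgHom x) = X.sec x :=
  AlgHom.congr_fun (f : Hom X Y).comm x

/-- The functor to commutative rings. -/
noncomputable def toRing : Nbhd A Ω ⥤ CommRingCat.{u} where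
  obj X := CommRingCat.of X.Ring
  map f := CommRingCat.ofHom (Hom.toAlgHom f).toRingHom

/-- Every étale algebra with a section is isomorphic to an object. -/
theorem exists_of (E : Type u) [CommRing E] [Algebra A E] [Algebra.Etale A E]
    (s : E →ₐ[A] Ω) :
    ∃ (X : Nbhd A Ω) (e : X.Ring ≃ₐ[A] E), s.comp e.toAlgHom = X.sec := by
  obtain ⟨n, f, hf⟩ := Algebra.FiniteType.iff_quotient_mvPolynomial''.mp
    (inferInstance : Algebra.FiniteType A E)
  let e : (MvPolynomial (Fin n) A ⧸ RingHom.ker f.toRingHom) ≃ₐ[A] E :=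
    Ideal.quotientKerAlgEquivOfSurjective hf
  exact ⟨⟨n, RingHom.ker f.toRingHom, Algebra.Etale.of_equiv e.symm, s.comp e.toAlgHom⟩, e, rfl⟩

/-- A chosen object isomorphic to a given étale algebra with section. -/
noncomputable def of (E : Type u) [CommRing E] [Algebra A E] [Algebra.Etale A E]
    (s : E →ₐ[A] Ω) : Nbhd A Ω := (exists_of E s).choose

/-- The isomorphism of `of E s` with `E`. -/
noncomputable def ofEquiv (E : Type u) [CommRing E] [Algebra A E] [Algebra.Etale A E]
    (s : E →ₐ[A] Ω) : (of E s).Ring ≃ₐ[A] E := (exists_of E s).choose_spec.choose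

theorem of_sec (E : Type u) [CommRing E] [Algebra A E] [Algebra.Etale A E]
    (s : E →ₐ[A] Ω) : s.comp (ofEquiv E s).toAlgHom = (of E s).sec :=
  (exists_of E s).choose_spec.choose_spec

theorem of_sec_apply (E : Type u) [CommRing E] [Algebra A E] [Algebra.Etale A E]
    (s : E →ₐ[A] Ω) (x : (of E s).Ring) : (of E s).sec x = s (ofEquiv E s x) :=
  (AlgHom.congr_fun (of_sec E s) x).symm

/-- A morphism out of an object into `of E s` from an algebra map into `E`. -/
noncomputable def homOf {X : Nbhd A Ω} (E : Type u) [CommRing E] [Algebra A E]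
    [Algebra.Etale A E] (s : E →ₐ[A] Ω) (φ : X.Ring →ₐ[A] E) (hφ : s.comp φ = X.sec) :
    X ⟶ of E s :=
  (⟨(ofEquiv E s).symm.toAlgHom.comp φ, by
    ext x
    simp only [AlgHom.comp_apply, of_sec_apply]
    have : (ofEquiv E s) ((ofEquiv E s).symm.toAlgHom (φ x)) = φ x :=
      (ofEquiv E s).apply_symm_apply _
    rw [this]
    exact AlgHom.congr_fun hφ x⟩ : Hom X (of E s))

theorem ofEquiv_homOf {X : Nbhd A Ω} (E : Type u) [CommRing E] [Algebra A E]
    [Algebra.Etale A E] (s : E →ₐ[A] Ω) (φ : X.Ring →ₐ[A] E) (hφ : s.comp φ = X.sec)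
    (x : X.Ring) : ofEquiv E s ((homOf E s φ hφ : Hom X (of E s)).toAlgHom x) = φ x :=
  (ofEquiv E s).apply_symm_apply _

end Nbhd

end Groth.Agent.Helper7.SHens
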