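import Mathlib
import Groth.Agent.Lib.Helper7.SHens.GNbhd

/-!
# The category of étale algebras with a section is filtered
-/

open CategoryTheory TensorProduct

namespace Groth.Agent.Helper7.SHens

universe u

variable {A : Type u} [CommRing A] {Ω : Type u} [CommRing Ω] [Algebra A Ω]

namespace Nbhd

/-- The base object `A` itself. -/
noncomputable def base (A : Type u) [CommRing A] (Ω : Type u) [CommRing Ω] [Algebra A Ω] : Nbhd A Ω :=
  of A (Algebra.ofId A Ω)

instance tensorEtale (X Y : Nbhd A Ω) : Algebra.Etale A (X.Ring ⊗[A] Y.Ring) :=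
  Algebra.Etale.comp A X.Ring _

theorem exists_cocone_objs (X Y : Nbhd A Ω) : ∃ (Z : Nbhd A Ω) (_ : X ⟶ Z) (_ : Y ⟶ Z), True := by
  let s : X.Ring ⊗[A] Y.Ring →ₐ[A] Ω := Algebra.TensorProduct.productMap X.sec Y.sec
  have h1 : s.comp Algebra.TensorProduct.includeLeft = X.sec :=
    Algebra.TensorProduct.productMap_left _ _
  have h2 : s.comp Algebra.TensorProduct.includeRight = Y.sec :=
    Algebra.TensorProduct.productMap_right _ _
  exact ⟨of (X.Ring ⊗[A] Y.Ring) s,
    homOf (X := X) (X.Ring ⊗[A] Y.Ring) s Algebra.TensorProduct.includeLeft h1,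
    homOf (X := Y) (X.Ring ⊗[A] Y.Ring) s Algebra.TensorProduct.includeRight h2, trivial⟩

/-- Localising an object at an element whose section value is a unit. -/
theorem exists_away (Y : Nbhd A Ω) (t : Y.Ring) (ht : IsUnit (Y.sec t)) :
    ∃ (Z : Nbhd A Ω) (h : Y ⟶ Z), IsUnit ((h : Hom Y Z).toAlgHom t) ∧
      ∀ y : Y.Ring, t * y = 0 → (h : Hom Y Z).toAlgHom y = 0 := by
  have hunit : ∀ y : Submonoid.powers t, IsUnit (Y.sec (y : Y.Ring)) := by
    rintro ⟨_, n, rfl⟩
    rw [map_pow]
    exact ht.pow n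
  let s : Localization.Away t →ₐ[A] Ω :=
    IsLocalization.liftAlgHom (M := Submonoid.powers t) (f := Y.sec) hunit
  have hs : s.comp (IsScalarTower.toAlgHom A Y.Ring (Localization.Away t)) = Y.sec := by
    ext y
    exact IsLocalization.lift_eq _ y
  refine ⟨of (Localization.Away t) s, homOf _ s (IsScalarTower.toAlgHom A Y.Ring _) hs, ?_, ?_⟩
  · have h1 : IsUnit (algebraMap Y.Ring (Localization.Away t) t) :=
      IsLocalization.Away.algebraMap_isUnit t
    have h2 : (homOf _ s (IsScalarTower.toAlgHom A Y.Ring _) hs : Hom Y _).toAlgHom t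
        = (ofEquiv (Localization.Away t) s).symm (algebraMap Y.Ring (Localization.Away t) t) :=
      rfl
    rw [h2]
    exact h1.map (ofEquiv (Localization.Away t) s).symm
  · intro y hy
    have h1 : IsUnit (algebraMap Y.Ring (Localization.Away t) t) :=
      IsLocalization.Away.algebraMap_isUnit t
    have h3 : algebraMap Y.Ring (Localization.Away t) y = 0 := by
      have := congrArg (algebraMap Y.Ring (Localization.Away t)) hy
      rw [map_mul, map_zero] at this
      exact (h1.mul_right_eq_zero).mp this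
    have h2 : (homOf _ s (IsScalarTower.toAlgHom A Y.Ring _) hs : Hom Y _).toAlgHom y
        = (ofEquiv (Localization.Away t) s).symm (algebraMap Y.Ring (Localization.Away t) y) :=
      rfl
    rw [h2, h3, map_zero]

theorem exists_cocone_maps (X Y : Nbhd A Ω) (f g : X ⟶ Y) :
    ∃ (Z : Nbhd A Ω) (h : Y ⟶ Z), f ≫ h = g ≫ h := by
  let Φ : X.Ring ⊗[A] X.Ring →ₐ[A] Y.Ring :=
    Algebra.TensorProduct.productMap (f : Hom X Y).toAlgHom (g : Hom X Y).toAlgHom
  let t : Y.Ring := Φ (Algebra.FormallyUnramified.elem A X.Ring)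
  have hsΦ : Y.sec.comp Φ = X.sec.comp (Algebra.TensorProduct.lmul' A) := by
    apply Algebra.TensorProduct.ext'
    intro x y
    simp only [AlgHom.comp_apply, Φ, Algebra.TensorProduct.productMap_apply_tmul,
      Algebra.TensorProduct.lmul'_apply_tmul, map_mul, sec_hom]
  have ht : Y.sec t = 1 := by
    have := AlgHom.congr_fun hsΦ (Algebra.FormallyUnramified.elem A X.Ring)
    simp only [AlgHom.comp_apply] at this
    rw [this, Algebra.FormallyUnramified.lmul_elem, map_one]
  obtain ⟨Z, h, -, hz⟩ := exists_away Y t (by rw [ht]; exact isUnit_one)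
  refine ⟨Z, h, ?_⟩
  apply hom_ext'
  ext x
  simp only [comp_toAlgHom, AlgHom.comp_apply]
  rw [← sub_eq_zero, ← map_sub]
  apply hz
  have h2 := Algebra.FormallyUnramified.one_tmul_sub_tmul_one_mul_elem (R := A) (S := X.Ring) x
  have h3 := congrArg Φ h2
  rw [map_mul, map_zero, map_sub] at h3
  simp only [Φ, Algebra.TensorProduct.productMap_apply_tmul, map_one, one_mul, mul_one] at h3
  have h4 : t * ((f : Hom X Y).toAlgHom x - (g : Hom X Y).toAlgHom x)
      = -(((g : Hom X Y).toAlgHom x - (f : Hom X Y).toAlgHom x) * t) := by ring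
  rw [h4, neg_eq_zero]
  exact h3

noncomputable instance : IsFiltered (Nbhd A Ω) where
  cocone_objs := exists_cocone_objs
  cocone_maps := exists_cocone_maps
  nonempty := ⟨base A Ω⟩

end Nbhd

end Groth.Agent.Helper7.SHens
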