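import Mathlib
import Groth.Agent.Lib.Helper7.SHens.GColim

/-!
# Maps out of the colimit `G A Ω`; formal étaleness
-/

open CategoryTheory CategoryTheory.Limits

namespace Groth.Agent.Helper7.SHens

universe u

variable {A : Type u} [CommRing A] {Ω : Type u} [CommRing Ω] [Algebra A Ω]

section

variable {D : Type u} [CommRing D] [Algebra A D]

/-- The cocone attached to a compatible family of algebra maps. -/
noncomputable def algCocone (φ : ∀ U : Nbhd A Ω, U.Ring →ₐ[A] D)
    (hφ : ∀ {U V : Nbhd A Ω} (f : U ⟶ V), (φ V).comp (f : Nbhd.Hom U V).toAlgHom = φ U) :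
    Cocone (Nbhd.toRing (A := A) (Ω := Ω)) where
  pt := CommRingCat.of D
  ι :=
    { app := fun U => CommRingCat.ofHom (φ U).toRingHom
      naturality := fun U V f => by
        ext x
        exact AlgHom.congr_fun (hφ f) x }

/-- The ring map out of the colimit attached to a compatible family of algebra maps. -/
noncomputable def descRing (φ : ∀ U : Nbhd A Ω, U.Ring →ₐ[A] D)
    (hφ : ∀ {U V : Nbhd A Ω} (f : U ⟶ V), (φ V).comp (f : Nbhd.Hom U V).toAlgHom = φ U) :
    G A Ω →+* D :=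
  (colimit.desc (Nbhd.toRing (A := A) (Ω := Ω)) (algCocone φ hφ)).hom

theorem descRing_ι (φ : ∀ U : Nbhd A Ω, U.Ring →ₐ[A] D)
    (hφ : ∀ {U V : Nbhd A Ω} (f : U ⟶ V), (φ V).comp (f : Nbhd.Hom U V).toAlgHom = φ U)
    (U : Nbhd A Ω) (x : U.Ring) : descRing φ hφ (ι U x) = φ U x := by
  have := colimit.ι_desc (algCocone φ hφ) U
  exact ConcreteCategory.congr_hom this x

/-- The algebra map out of the colimit attached to a compatible family of algebra maps. -/
noncomputable def descAlg (φ : ∀ U : Nbhd A Ω, U.Ring →ₐ[A] D)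
    (hφ : ∀ {U V : Nbhd A Ω} (f : U ⟶ V), (φ V).comp (f : Nbhd.Hom U V).toAlgHom = φ U) :
    G A Ω →ₐ[A] D :=
  { descRing φ hφ with
    commutes' := fun a => by
      show descRing φ hφ (algebraMap A (G A Ω) a) = _
      rw [← ι_algebraMap (Nbhd.base A Ω) a, descRing_ι, AlgHom.commutes] }

theorem descAlg_ι (φ : ∀ U : Nbhd A Ω, U.Ring →ₐ[A] D)
    (hφ : ∀ {U V : Nbhd A Ω} (f : U ⟶ V), (φ V).comp (f : Nbhd.Hom U V).toAlgHom = φ U)
    (U : Nbhd A Ω) (x : U.Ring) : descAlg φ hφ (ι U x) = φ U x :=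
  descRing_ι φ hφ U x

end

theorem algHom_ext_G {D : Type*} [CommRing D] [Algebra A D] {g g' : G A Ω →ₐ[A] D}
    (h : ∀ (U : Nbhd A Ω) (x : U.Ring), g (ι U x) = g' (ι U x)) : g = g' := by
  ext c
  obtain ⟨U, x, rfl⟩ := exists_rep c
  exact h U x

theorem ringHom_ext_G {D : Type*} [CommRing D] {g g' : G A Ω →+* D}
    (h : ∀ (U : Nbhd A Ω) (x : U.Ring), g (ι U x) = g' (ι U x)) : g = g' := by
  ext c
  obtain ⟨U, x, rfl⟩ := exists_rep c
  exact h U x

theorem ιAlg_comp_hom {U V : Nbhd A Ω} (f : U ⟶ V) :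
    (ιAlg V).comp (f : Nbhd.Hom U V).toAlgHom = ιAlg U := by
  ext x
  exact ι_hom f x

/-- The colimit `G A Ω` is formally étale over `A`. -/
theorem formallyEtale_G : Algebra.FormallyEtale A (G A Ω) := by
  rw [Algebra.FormallyEtale.iff_comp_bijective]
  intro B _ _ N hN
  constructor
  · intro g₁ g₂ h
    apply algHom_ext_G
    intro U x
    have h1 : (Ideal.Quotient.mkₐ A N).comp (g₁.comp (ιAlg U))
        = (Ideal.Quotient.mkₐ A N).comp (g₂.comp (ιAlg U)) := by
      rw [← AlgHom.comp_assoc, ← AlgHom.comp_assoc]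
      exact congrArg (fun k => k.comp (ιAlg U)) h
    have h2 := (Algebra.FormallyEtale.comp_bijective A U.Ring N hN).1 h1
    exact AlgHom.congr_fun h2 x
  · intro gbar
    have hex : ∀ U : Nbhd A Ω, ∃ g : U.Ring →ₐ[A] B,
        (Ideal.Quotient.mkₐ A N).comp g = gbar.comp (ιAlg U) := fun U =>
      (Algebra.FormallyEtale.comp_bijective A U.Ring N hN).2 _
    choose φ hφ using hex
    have hcompat : ∀ {U V : Nbhd A Ω} (f : U ⟶ V),
        (φ V).comp (f : Nbhd.Hom U V).toAlgHom = φ U := by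
      intro U V f
      apply (Algebra.FormallyEtale.comp_bijective A U.Ring N hN).1
      show (Ideal.Quotient.mkₐ A N).comp ((φ V).comp (f : Nbhd.Hom U V).toAlgHom)
        = (Ideal.Quotient.mkₐ A N).comp (φ U)
      rw [← AlgHom.comp_assoc, hφ V, hφ U, AlgHom.comp_assoc, ιAlg_comp_hom]
    refine ⟨descAlg φ hcompat, ?_⟩
    apply algHom_ext_G
    intro U x
    rw [AlgHom.comp_apply, descAlg_ι]
    exact AlgHom.congr_fun (hφ U) x

/-- The colimit `G A Ω` is flat over `A`. -/
theorem flat : Module.Flat A (G A Ω) := by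
  apply Module.Flat.of_forall_isTrivialRelation
  intro l f x hfx
  obtain ⟨U, -, ξ, hξ⟩ := exists_rep_fin (Nbhd.base A Ω) x
  have h1 : ι U (∑ i, f i • ξ i) = ι U 0 := by
    rw [map_sum, map_zero, ← hfx]
    apply Finset.sum_congr rfl
    intro i _
    rw [Algebra.smul_def, map_mul, ι_algebraMap, hξ, Algebra.smul_def]
  obtain ⟨V, g, hg⟩ := exists_hom_eq_of_ι_eq _ _ h1
  rw [map_zero, map_sum] at hg
  have h2 : ∑ i, f i • (g : Nbhd.Hom U V).toAlgHom (ξ i) = 0 := by
    rw [← hg]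
    apply Finset.sum_congr rfl
    intro i _
    rw [map_smul]
  have hflat : Module.Flat A V.Ring := inferInstance
  obtain ⟨k, a, y, hy1, hy2⟩ := Module.Flat.isTrivialRelation_of_sum_smul_eq_zero (R := A)
    (M := V.Ring) (f := f) (x := fun i => (g : Nbhd.Hom U V).toAlgHom (ξ i)) h2
  refine ⟨k, a, fun j => ι V (y j), ?_, hy2⟩
  intro i
  have hy1' : (g : Nbhd.Hom U V).toAlgHom (ξ i) = ∑ j, a i j • y j := hy1 i
  rw [← hξ i, ← ι_hom g, hy1', map_sum]
  apply Finset.sum_congr rfl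
  intro j _
  show ι V (a i j • y j) = a i j • ι V (y j)
  rw [Algebra.smul_def, map_mul, ι_algebraMap, Algebra.smul_def]


end Groth.Agent.Helper7.SHens
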