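import Mathlib
import Groth.Agent.Lib.Helper7.SHens.GDesc

/-!
# The canonical map `G A Ω → Ω` and adjunction of étale algebras
-/

open CategoryTheory CategoryTheory.Limits TensorProduct

namespace Groth.Agent.Helper7.SHens

universe u

variable {A : Type u} [CommRing A] {Ω : Type u} [CommRing Ω] [Algebra A Ω]

/-- The canonical map to `Ω`. -/
noncomputable def σ : G A Ω →ₐ[A] Ω :=
  descAlg (fun U : Nbhd A Ω => U.sec) (fun f => (f : Nbhd.Hom _ _).comm)

theorem σ_ι (U : Nbhd A Ω) (x : U.Ring) : σ (ι U x) = U.sec x :=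
  descAlg_ι _ _ U x

/-- An element whose image in `Ω` is a unit is a unit. -/
theorem isUnit_of_isUnit_σ (c : G A Ω) (h : IsUnit (σ c)) : IsUnit c := by
  obtain ⟨U, x, rfl⟩ := exists_rep c
  rw [σ_ι] at h
  obtain ⟨W, k, hu, -⟩ := Nbhd.exists_away U x h
  rw [← ι_hom k x]
  exact hu.map (ι W)

/-- **Adjunction lemma**: an étale algebra over a stage with a compatible map to `Ω` maps to the
colimit compatibly. -/
theorem exists_adjoin (X : Nbhd A Ω) (E : Type u) [CommRing E] [Algebra A E] [Algebra X.Ring E]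
    [IsScalarTower A X.Ring E] [Algebra.Etale X.Ring E] (τ : E →ₐ[A] Ω)
    (hτ : τ.comp (IsScalarTower.toAlgHom A X.Ring E) = X.sec) :
    ∃ ψ : E →ₐ[A] G A Ω, (∀ x : X.Ring, ψ (algebraMap X.Ring E x) = ι X x) ∧
      ∀ e : E, σ (ψ e) = τ e := by
  have hEt : Algebra.Etale A E := Algebra.Etale.comp A X.Ring E
  refine ⟨(ιAlg (Nbhd.of E τ)).comp (Nbhd.ofEquiv E τ).symm.toAlgHom, ?_, ?_⟩
  · intro x
    let k : X ⟶ Nbhd.of E τ := Nbhd.homOf E τ (IsScalarTower.toAlgHom A X.Ring E) hτ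
    have h1 : ι (Nbhd.of E τ) ((k : Nbhd.Hom X _).toAlgHom x) = ι X x := ι_hom k x
    rw [← h1]
    rfl
  · intro e
    rw [AlgHom.comp_apply, ιAlg_apply, σ_ι, Nbhd.of_sec_apply]
    have : Nbhd.ofEquiv E τ ((Nbhd.ofEquiv E τ).symm.toAlgHom e) = e :=
      (Nbhd.ofEquiv E τ).apply_symm_apply e
    rw [this]

end Groth.Agent.Helper7.SHens
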