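import Mathlib
import Groth.Agent.Lib.Helper7.SHens.GSigma

/-!
# The colimit of étale neighbourhoods of a geometric point is a henselian local ring
-/

open CategoryTheory CategoryTheory.Limits TensorProduct Polynomial

namespace Groth.Agent.Helper7.SHens

universe u

section Poly

variable {A : Type u} [CommRing A] {Ω : Type u} [CommRing Ω] [Algebra A Ω]

/-- A monic polynomial over the colimit and an element come from a common stage. -/
theorem exists_rep_monic (f : (G A Ω)[X]) (hf : f.Monic) (a₀ : G A Ω) :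
    ∃ (U : Nbhd A Ω) (F : U.Ring[X]) (α : U.Ring), F.Monic ∧ F.map (ι U) = f ∧ ι U α = a₀ := by
  rcases subsingleton_or_nontrivial (G A Ω) with hsub | hnt
  · refine ⟨Nbhd.base A Ω, 1, 0, monic_one, Subsingleton.elim _ _, Subsingleton.elim _ _⟩
  set n := f.natDegree with hn
  obtain ⟨U, -, x, hx⟩ := exists_rep_fin (Nbhd.base A Ω)
    (Fin.cons a₀ (fun i : Fin n => f.coeff i) : Fin (n + 1) → G A Ω)
  have hUnt : Nontrivial U.Ring := (ι U).domain_nontrivial
  set q : U.Ring[X] := ∑ i : Fin n, C (x i.succ) * X ^ (i : ℕ) with hq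
  have hqdeg : q.degree < n := by
    rw [hq]
    exact Polynomial.degree_sum_fin_lt (fun i : Fin n => x i.succ)
  refine ⟨U, X ^ n + q, x 0, monic_X_pow_add hqdeg, ?_, ?_⟩
  · rw [Polynomial.map_add, Polynomial.map_pow, Polynomial.map_X, hq, Polynomial.map_sum]
    conv_rhs => rw [hf.as_sum, ← hn, Finset.sum_range]
    congr 1
    apply Finset.sum_congr rfl
    intro i _
    rw [Polynomial.map_mul, Polynomial.map_C, Polynomial.map_pow, Polynomial.map_X, hx,
      Fin.cons_succ]
  · rw [hx, Fin.cons_zero]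

end Poly

variable (R : Type u) [CommRing R] (K : Type u) [Field K] [Algebra R K]

theorem not_isUnit_of_σ_eq_zero {c : G R K} (hc : σ c = 0) : ¬ IsUnit c := by
  intro hu
  have := hu.map (σ : G R K →ₐ[R] K)
  rw [hc] at this
  exact not_isUnit_zero this

theorem isUnit_iff_σ_ne_zero (c : G R K) : IsUnit c ↔ σ c ≠ 0 := by
  constructor
  · intro hu h0
    exact not_isUnit_of_σ_eq_zero R K h0 hu
  · intro h
    exact isUnit_of_isUnit_σ c (isUnit_iff_ne_zero.mpr h)

instance nontrivial_G : Nontrivial (G R K) := by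
  refine ⟨⟨1, 0, fun h => ?_⟩⟩
  have := congrArg (σ : G R K →ₐ[R] K) h
  rw [map_one, map_zero] at this
  exact one_ne_zero this

instance isLocalRing_G : IsLocalRing (G R K) := by
  apply IsLocalRing.of_nonunits_add
  intro a b ha hb
  rw [mem_nonunits_iff, isUnit_iff_σ_ne_zero, not_not] at ha hb ⊢
  rw [map_add, ha, hb, add_zero]

theorem mem_maximalIdeal_iff (c : G R K) : c ∈ IsLocalRing.maximalIdeal (G R K) ↔ σ c = 0 := by
  rw [IsLocalRing.mem_maximalIdeal, mem_nonunits_iff, isUnit_iff_σ_ne_zero, not_not]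

instance henselianLocalRing_G : HenselianLocalRing (G R K) where
  is_henselian f hf a₀ h₁ h₂ := by
    obtain ⟨U, F, α, hFm, rfl, rfl⟩ := exists_rep_monic f hf a₀
    rw [mem_maximalIdeal_iff, Polynomial.eval_map, Polynomial.eval₂_at_apply, σ_ι] at h₁
    rw [isUnit_iff_σ_ne_zero, Polynomial.derivative_map, Polynomial.eval_map,
      Polynomial.eval₂_at_apply, σ_ι] at h₂
    let P : StandardEtalePair U.Ring :=
      { f := F
        monic_f := hFm
        g := derivative F
        cond := ⟨1, 0, 1, by ring⟩ }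
    let _ : Algebra R P.Ring := ((algebraMap U.Ring P.Ring).comp (algebraMap R U.Ring)).toAlgebra
    have htower : IsScalarTower R U.Ring P.Ring := IsScalarTower.of_algebraMap_eq (fun _ => rfl)
    let _ : Algebra U.Ring K := U.sec.toRingHom.toAlgebra
    have htower' : IsScalarTower R U.Ring K :=
      IsScalarTower.of_algebraMap_eq (fun a => (U.sec.commutes a).symm)
    have hmap : P.HasMap (U.sec α) := by
      constructor
      · show eval₂ (U.sec : U.Ring →+* K) ((U.sec : U.Ring →+* K) α) F = 0
        rw [Polynomial.eval₂_at_apply]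
        exact h₁
      · show IsUnit (eval₂ (U.sec : U.Ring →+* K) ((U.sec : U.Ring →+* K) α) (derivative F))
        rw [Polynomial.eval₂_at_apply, isUnit_iff_ne_zero]
        exact h₂
    let τ₀ : P.Ring →ₐ[U.Ring] K := P.lift (U.sec α) hmap
    let τ : P.Ring →ₐ[R] K := τ₀.restrictScalars R
    have hτ : τ.comp (IsScalarTower.toAlgHom R U.Ring P.Ring) = U.sec := by
      ext y
      exact τ₀.commutes y
    obtain ⟨ψ, hψ, hψσ⟩ := exists_adjoin U P.Ring τ hτ
    refine ⟨ψ P.X, ?_, ?_⟩
    · rw [IsRoot.def, Polynomial.eval_map]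
      have h2 : (ι U : U.Ring →+* G R K) = ψ.toRingHom.comp (algebraMap U.Ring P.Ring) := by
        ext y
        exact (hψ y).symm
      have h3 : eval₂ (algebraMap U.Ring P.Ring) P.X F = 0 := P.hasMap_X.1
      have h4 := Polynomial.hom_eval₂ F (algebraMap U.Ring P.Ring) (ψ : P.Ring →+* G R K) P.X
      rw [h3, map_zero] at h4
      rw [h2]
      exact h4.symm
    · rw [mem_maximalIdeal_iff, map_sub, hψσ, σ_ι, sub_eq_zero]
      exact StandardEtalePair.lift_X P (U.sec α) hmap

end Groth.Agent.Helper7.SHens
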