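import Mathlib
import Groth.Agent.Lib.Helper7.SHens.StrictLocal

/-!
# Surjectivity of `σ : G R K → K` for a separable algebraic residue extension
-/

open CategoryTheory CategoryTheory.Limits TensorProduct Polynomial

namespace Groth.Agent.Helper7.SHens

universe u

variable (R : Type u) [CommRing R] [IsLocalRing R] (K : Type u) [Field K] [Algebra R K]
  [Algebra (IsLocalRing.ResidueField R) K] [IsScalarTower R (IsLocalRing.ResidueField R) K]

/-- Every element of `K` separable over the residue field is in the image of `σ`. -/
theorem exists_σ_eq_of_isSeparable (y : K) (hy : IsSeparable (IsLocalRing.ResidueField R) y) :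
    ∃ c : G R K, σ c = y := by
  have hint : IsIntegral (IsLocalRing.ResidueField R) y := hy.isIntegral
  obtain ⟨P, hPmap, -, hPm⟩ := Polynomial.lifts_and_natDegree_eq_and_monic
    (Polynomial.mem_lifts_of_surjective (IsLocalRing.residue_surjective (R := R))
      (minpoly (IsLocalRing.ResidueField R) y))
    (minpoly.monic hint)
  have hcomp : (algebraMap R K) =
      (algebraMap (IsLocalRing.ResidueField R) K).comp (IsLocalRing.residue R) :=
    IsScalarTower.algebraMap_eq R (IsLocalRing.ResidueField R) K
  have heval : ∀ Q : R[X], eval₂ (algebraMap R K) y Q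
      = aeval y (Q.map (IsLocalRing.residue R)) := by
    intro Q
    rw [aeval_def, Polynomial.eval₂_map, ← hcomp]
  let Q : StandardEtalePair R :=
    { f := P
      monic_f := hPm
      g := derivative P
      cond := ⟨1, 0, 1, by ring⟩ }
  have hmap : Q.HasMap y := by
    constructor
    · show eval₂ (algebraMap R K) y P = 0
      rw [heval, hPmap, minpoly.aeval]
    · show IsUnit (eval₂ (algebraMap R K) y (derivative P))
      rw [heval, ← Polynomial.derivative_map, hPmap, isUnit_iff_ne_zero]
      exact hy.aeval_derivative_ne_zero (minpoly.aeval _ y)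
  let τ : Q.Ring →ₐ[R] K := Q.lift y hmap
  refine ⟨ι (Nbhd.of Q.Ring τ) ((Nbhd.ofEquiv Q.Ring τ).symm Q.X), ?_⟩
  rw [σ_ι, Nbhd.of_sec_apply, AlgEquiv.apply_symm_apply]
  exact StandardEtalePair.lift_X Q y hmap

variable [Algebra.IsSeparable (IsLocalRing.ResidueField R) K]

theorem σ_surjective : Function.Surjective (σ : G R K →ₐ[R] K) := fun y =>
  exists_σ_eq_of_isSeparable R K y (Algebra.IsSeparable.isSeparable _ y)

end Groth.Agent.Helper7.SHens
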