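import Mathlib
import Groth.Agent.Lib.Helper7.SHens.SigmaSurj

/-!
# The residue field of `G R K`
-/

open CategoryTheory CategoryTheory.Limits TensorProduct Polynomial

namespace Groth.Agent.Helper7.SHens

universe u

/-- Separable closedness transports along ring isomorphisms. -/
theorem isSepClosed_of_ringEquiv {k k' : Type*} [Field k] [Field k'] (e : k ≃+* k')
    [IsSepClosed k] : IsSepClosed k' := by
  apply IsSepClosed.of_exists_root
  intro p _ hp hsep
  have hpe : degree (p.map e.symm.toRingHom) ≠ 0 := by
    rw [degree_map]
    exact ne_of_gt (degree_pos_of_irreducible hp)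
  have hsep' : (p.map e.symm.toRingHom).Separable := hsep.map
  rcases IsSepClosed.exists_root (k := k) (p.map e.symm.toRingHom) hpe hsep' with ⟨x, hx⟩
  refine ⟨e x, ?_⟩
  apply e.symm.injective
  rw [map_zero, ← hx, Polynomial.eval_map]
  have h := Polynomial.hom_eval₂ p (RingHom.id k') e.symm.toRingHom (e x)
  simp only [RingHom.comp_id, Polynomial.eval₂_id, RingEquiv.toRingHom_eq_coe,
    RingHom.coe_coe, RingEquiv.symm_apply_apply] at h
  exact h

variable (R : Type u) [CommRing R] [IsLocalRing R] (K : Type u) [Field K] [Algebra R K]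
  [Algebra (IsLocalRing.ResidueField R) K] [IsScalarTower R (IsLocalRing.ResidueField R) K]

instance isLocalHom_σ : IsLocalHom (σ : G R K →ₐ[R] K).toRingHom where
  map_nonunit c hc := by
    rw [isUnit_iff_σ_ne_zero]
    exact isUnit_iff_ne_zero.mp hc

instance isLocalHom_algebraMap_G : IsLocalHom (algebraMap R (G R K)) where
  map_nonunit r hr := by
    rw [isUnit_iff_σ_ne_zero, AlgHom.commutes,
      IsScalarTower.algebraMap_apply R (IsLocalRing.ResidueField R) K] at hr
    have h2 : algebraMap R (IsLocalRing.ResidueField R) r ≠ 0 := by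
      intro h0
      rw [h0, map_zero] at hr
      exact hr rfl
    by_contra hnu
    exact h2 ((IsLocalRing.residue_eq_zero_iff r).mpr hnu)

/-- The map from the residue field of `G R K` to `K`. -/
noncomputable def resHom : IsLocalRing.ResidueField (G R K) →+* K :=
  IsLocalRing.ResidueField.lift (σ : G R K →ₐ[R] K).toRingHom

omit [IsLocalRing R] [Algebra (IsLocalRing.ResidueField R) K]
  [IsScalarTower R (IsLocalRing.ResidueField R) K] in
theorem resHom_residue (c : G R K) : resHom R K (IsLocalRing.residue _ c) = σ c :=
  IsLocalRing.ResidueField.lift_residue_apply _ c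

theorem resHom_algebraMap (x : IsLocalRing.ResidueField R) :
    resHom R K (algebraMap _ (IsLocalRing.ResidueField (G R K)) x) = algebraMap _ K x := by
  obtain ⟨r, rfl⟩ := IsLocalRing.residue_surjective x
  rw [IsLocalRing.ResidueField.algebraMap_residue, resHom_residue, AlgHom.commutes]
  exact IsScalarTower.algebraMap_apply R (IsLocalRing.ResidueField R) K r

section Sep

variable [Algebra.IsSeparable (IsLocalRing.ResidueField R) K]

theorem resHom_bijective : Function.Bijective (resHom R K) := by
  refine ⟨(resHom R K).injective, fun y => ?_⟩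
  obtain ⟨c, rfl⟩ := σ_surjective R K y
  exact ⟨IsLocalRing.residue _ c, resHom_residue R K c⟩

/-- The residue field of `G R K` is `K`. -/
noncomputable def resEquiv :
    IsLocalRing.ResidueField (G R K) ≃ₐ[IsLocalRing.ResidueField R] K :=
  AlgEquiv.ofBijective
    { (resHom R K) with commutes' := resHom_algebraMap R K } (resHom_bijective R K)

theorem resEquiv_residue (c : G R K) : resEquiv R K (IsLocalRing.residue _ c) = σ c :=
  resHom_residue R K c

end Sep

theorem isSepClosure_residueField_G [IsSepClosure (IsLocalRing.ResidueField R) K] :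
    IsSepClosure (IsLocalRing.ResidueField R) (IsLocalRing.ResidueField (G R K)) := by
  have h1 : IsSepClosed K := IsSepClosure.sep_closed (IsLocalRing.ResidueField R)
  exact ⟨isSepClosed_of_ringEquiv (resEquiv R K).symm.toRingEquiv,
    AlgEquiv.Algebra.isSeparable (resEquiv R K).symm⟩

end Groth.Agent.Helper7.SHens
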