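import Mathlib
import Groth.Agent.Lib.Helper7.SHens.Residue

/-!
# The maximal ideal of `G R K` is generated by the maximal ideal of `R`
-/

open CategoryTheory CategoryTheory.Limits TensorProduct

namespace Groth.Agent.Helper7.SHens

universe u

variable (R : Type u) [CommRing R] [IsLocalRing R] (K : Type u) [Field K] [Algebra R K]
  [Algebra (IsLocalRing.ResidueField R) K] [IsScalarTower R (IsLocalRing.ResidueField R) K]

/-- An element of `R` not killed in `K` is a unit. -/
theorem isUnit_of_algebraMap_ne_zero {r : R} (hr : algebraMap R K r ≠ 0) : IsUnit r := by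
  rw [IsScalarTower.algebraMap_apply R (IsLocalRing.ResidueField R) K] at hr
  by_contra hnu
  apply hr
  rw [show algebraMap R (IsLocalRing.ResidueField R) r = 0 from
    (IsLocalRing.residue_eq_zero_iff r).mpr hnu, map_zero]

variable {R K}

/-- The key step: an element in the kernel of the section of a stage lies, after multiplying by
an element with nonzero section value, in the extension of the maximal ideal. -/
theorem exists_mul_mem_of_sec_eq_zero (U : Nbhd R K) (x : U.Ring) (hx : U.sec x = 0) :
    ∃ s : U.Ring, U.sec s ≠ 0 ∧
      s * x ∈ (IsLocalRing.maximalIdeal R).map (algebraMap R U.Ring) := by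
  let q : Ideal U.Ring := RingHom.ker (U.sec : U.Ring →+* K)
  have hq : q.IsPrime := RingHom.ker_isPrime _
  let L := Localization.AtPrime q
  have hloc : IsLocalHom (algebraMap R L) := by
    constructor
    intro r hr
    apply isUnit_of_algebraMap_ne_zero R K
    intro h0
    have h1 : algebraMap R U.Ring r ∈ q := by
      show U.sec (algebraMap R U.Ring r) = 0
      rw [AlgHom.commutes, h0]
    have h2 : algebraMap U.Ring L (algebraMap R U.Ring r) ∈ IsLocalRing.maximalIdeal L := by
      rw [← Localization.AtPrime.map_eq_maximalIdeal]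
      exact Ideal.mem_map_of_mem _ h1
    rw [← IsScalarTower.algebraMap_apply] at h2
    exact h2 hr
  have hunr : Algebra.FormallyUnramified R L :=
    have : Algebra.FormallyUnramified U.Ring L :=
      Algebra.FormallyUnramified.of_isLocalization q.primeCompl
    Algebra.FormallyUnramified.comp R U.Ring L
  have hess : Algebra.EssFiniteType R L :=
    have : Algebra.EssFiniteType U.Ring L := Algebra.EssFiniteType.of_isLocalization L q.primeCompl
    Algebra.EssFiniteType.comp R U.Ring L
  have hmax : (IsLocalRing.maximalIdeal R).map (algebraMap R L) = IsLocalRing.maximalIdeal L :=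
    Algebra.FormallyUnramified.map_maximalIdeal
  have hxL : algebraMap U.Ring L x ∈ IsLocalRing.maximalIdeal L := by
    rw [← Localization.AtPrime.map_eq_maximalIdeal]
    exact Ideal.mem_map_of_mem _ hx
  rw [← hmax, IsScalarTower.algebraMap_eq R U.Ring L, ← Ideal.map_map,
    IsLocalization.algebraMap_mem_map_algebraMap_iff q.primeCompl] at hxL
  obtain ⟨s, hs, hsx⟩ := hxL
  exact ⟨s, hs, hsx⟩

variable (R K)

/-- The maximal ideal of `G R K` is generated by the maximal ideal of `R`. -/
theorem map_maximalIdeal_G :
    (IsLocalRing.maximalIdeal R).map (algebraMap R (G R K)) = IsLocalRing.maximalIdeal (G R K) := by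
  apply le_antisymm
  · exact ((IsLocalRing.local_hom_TFAE (algebraMap R (G R K))).out 0 2 rfl rfl).mp
      (isLocalHom_algebraMap_G R K)
  · intro c hc
    rw [mem_maximalIdeal_iff] at hc
    obtain ⟨U, x, rfl⟩ := exists_rep c
    rw [σ_ι] at hc
    obtain ⟨s, hs, hsx⟩ := exists_mul_mem_of_sec_eq_zero U x hc
    have hu : IsUnit (ι U s) := by
      apply isUnit_of_isUnit_σ
      rw [σ_ι]
      exact isUnit_iff_ne_zero.mpr hs
    have h1 : ι U (s * x) ∈ (IsLocalRing.maximalIdeal R).map (algebraMap R (G R K)) := by
      have h2 : ι U (s * x) ∈ ((IsLocalRing.maximalIdeal R).map (algebraMap R U.Ring)).map (ι U) :=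
        Ideal.mem_map_of_mem _ hsx
      rw [Ideal.map_map] at h2
      have h3 : (ι U).comp (algebraMap R U.Ring) = algebraMap R (G R K) := by
        ext r
        exact ι_algebraMap U r
      rw [h3] at h2
      exact h2
    rw [map_mul] at h1
    exact (Ideal.unit_mul_mem_iff_mem _ hu).mp h1

end Groth.Agent.Helper7.SHens
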