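import Mathlib
import Groth.Prelude.Def_Hensel
import Groth.Agent.Lib.Helper7.SHens.Universal
import Groth.Agent.Lib.Helper7.SHens.MaxIdeal

/-!
# `G R K` is a strict henselization when `K` is a separable closure of the residue field
-/

open CategoryTheory CategoryTheory.Limits TensorProduct

namespace Groth.Agent.Helper7.SHens

universe u

variable (R : Type u) [CommRing R] [IsLocalRing R] (K : Type u) [Field K] [Algebra R K]
  [Algebra (IsLocalRing.ResidueField R) K] [IsScalarTower R (IsLocalRing.ResidueField R) K]
  [IsSepClosure (IsLocalRing.ResidueField R) K]

theorem isStrictHenselization_G : Hensel.IsStrictHenselization R (G R K) where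
  henselian := henselianLocalRing_G R K
  isSepClosure := isSepClosure_residueField_G R K
  universal T _ _ f _ τ hτ := universal T f τ hτ

/-- Every local ring has a strict henselization. -/
theorem exists_isStrictHenselization (R : Type u) [CommRing R] [IsLocalRing R] :
    ∃ (S : Type u) (_ : CommRing S) (_ : IsLocalRing S) (_ : Algebra R S)
      (_ : IsLocalHom (algebraMap R S)), Hensel.IsStrictHenselization R S :=
  ⟨G R (SeparableClosure (IsLocalRing.ResidueField R)), inferInstance, inferInstance,
    inferInstance, inferInstance,
    isStrictHenselization_G R (SeparableClosure (IsLocalRing.ResidueField R))⟩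

end Groth.Agent.Helper7.SHens
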