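import Mathlib
import Groth.Agent.Lib.Helper7.SHens.Main

/-!
# Uniqueness of strict henselizations
-/

open CategoryTheory CategoryTheory.Limits TensorProduct

namespace Groth.Agent.Helper7.SHens

universe u

variable (R : Type u) [CommRing R] [IsLocalRing R] (S : Type u) [CommRing S] [IsLocalRing S]
  [Algebra R S] [IsLocalHom (algebraMap R S)]

theorem residueField_map_algebraMap :
    IsLocalRing.ResidueField.map (algebraMap R S)
      = algebraMap (IsLocalRing.ResidueField R) (IsLocalRing.ResidueField S) := by
  ext x
  obtain ⟨r, rfl⟩ := IsLocalRing.residue_surjective x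
  rfl

variable [hS : Hensel.IsStrictHenselization R S]

/-- The model: the colimit over étale neighbourhoods of the residue field of `S`. -/
abbrev Model : Type u := G R (IsLocalRing.ResidueField S)

instance : IsSepClosure (IsLocalRing.ResidueField R) (IsLocalRing.ResidueField S) :=
  hS.isSepClosure

theorem isStrictHenselization_Model : Hensel.IsStrictHenselization R (Model R S) :=
  isStrictHenselization_G R (IsLocalRing.ResidueField S)

/-- The comparison of residue fields. -/
noncomputable def modelRes :
    IsLocalRing.ResidueField (Model R S) ≃ₐ[IsLocalRing.ResidueField R]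
      IsLocalRing.ResidueField S :=
  resEquiv R (IsLocalRing.ResidueField S)

theorem exists_algEquiv_Model :
    ∃ e : S ≃ₐ[R] Model R S, ∀ x : S,
      modelRes R S (IsLocalRing.residue _ (e x)) = IsLocalRing.residue S x := by
  have hM := isStrictHenselization_Model R S
  have hSh : HenselianLocalRing S := hS.henselian
  -- the map `Model → S`
  have hc1 : (modelRes R S : IsLocalRing.ResidueField (Model R S) →+* _).comp
      (IsLocalRing.ResidueField.map (algebraMap R (Model R S)))
      = IsLocalRing.ResidueField.map (algebraMap R S) := by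
    rw [residueField_map_algebraMap, residueField_map_algebraMap]
    ext x
    exact (modelRes R S).commutes x
  obtain ⟨g, ⟨hg1, hg2⟩, -⟩ := hM.universal S (algebraMap R S) _ hc1
  -- the map `S → Model`
  have hc2 : ((modelRes R S).symm : IsLocalRing.ResidueField S →+* _).comp
      (IsLocalRing.ResidueField.map (algebraMap R S))
      = IsLocalRing.ResidueField.map (algebraMap R (Model R S)) := by
    rw [residueField_map_algebraMap, residueField_map_algebraMap]
    ext x
    exact (modelRes R S).symm.commutes x
  obtain ⟨g', ⟨hg'1, hg'2⟩, -⟩ := hS.universal (Model R S) (algebraMap R (Model R S)) _ hc2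
  -- compositions are the identity by uniqueness
  have hid1 : (RingHom.id _ : IsLocalRing.ResidueField S →+* _).comp
      (IsLocalRing.ResidueField.map (algebraMap R S))
      = IsLocalRing.ResidueField.map (algebraMap R S) := RingHom.id_comp _
  obtain ⟨k, -, hk⟩ := hS.universal S (algebraMap R S) _ hid1
  have h1 : g.comp g' = RingHom.id S := by
    rw [hk (g.comp g') ⟨?_, ?_⟩, hk (RingHom.id S) ⟨RingHom.id_comp _, fun x => rfl⟩]
    · rw [RingHom.comp_assoc, hg'1, hg1]
    · intro x
      rw [RingHom.comp_apply, hg2, hg'2]
      simp
  have hid2 : (RingHom.id _ : IsLocalRing.ResidueField (Model R S) →+* _).comp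
      (IsLocalRing.ResidueField.map (algebraMap R (Model R S)))
      = IsLocalRing.ResidueField.map (algebraMap R (Model R S)) := RingHom.id_comp _
  obtain ⟨k', -, hk'⟩ := hM.universal (Model R S) (algebraMap R (Model R S)) _ hid2
  have h2 : g'.comp g = RingHom.id (Model R S) := by
    rw [hk' (g'.comp g) ⟨?_, ?_⟩, hk' (RingHom.id _) ⟨RingHom.id_comp _, fun x => rfl⟩]
    · rw [RingHom.comp_assoc, hg1, hg'1]
    · intro x
      rw [RingHom.comp_apply, hg'2, hg2]
      simp
  let e : S ≃+* Model R S := RingEquiv.ofRingHom g' g h2 h1
  refine ⟨AlgEquiv.ofRingEquiv (f := e) (fun r => RingHom.congr_fun hg'1 r), fun x => ?_⟩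
  show modelRes R S (IsLocalRing.residue _ (g' x)) = _
  rw [hg'2]
  simp

end Groth.Agent.Helper7.SHens
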