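import Mathlib
import Groth.Agent.Lib.Helper7.SHens.Unique
import Groth.Agent.Lib.Helper7.Hens.Abstract
import Groth.Agent.Lib.Helper7.CAlg.ReducedSmooth

/-!
# Properties of abstract strict henselizations
-/

open CategoryTheory CategoryTheory.Limits TensorProduct

namespace Groth.Agent.Helper7.SHens

universe u

section Reduced

variable {A : Type u} [CommRing A] {Ω : Type u} [CommRing Ω] [Algebra A Ω]

theorem isReduced_G [IsReduced A] : IsReduced (G A Ω) := by
  constructor
  intro c hc
  obtain ⟨n, hn⟩ := hc
  obtain ⟨U, x, rfl⟩ := exists_rep c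
  have h1 : ι U (x ^ n) = ι U 0 := by rw [map_pow, hn, map_zero]
  obtain ⟨V, f, hf⟩ := exists_hom_eq_of_ι_eq _ _ h1
  rw [map_zero, map_pow] at hf
  have hred : IsReduced V.Ring := Groth.Agent.Helper7.isReduced_of_smooth A V.Ring
  have h2 : (f : Nbhd.Hom U V).toAlgHom x = 0 := IsReduced.eq_zero _ ⟨n, hf⟩
  rw [← ι_hom f x, h2, map_zero]

end Reduced

variable (R : Type u) [CommRing R] [IsLocalRing R] (S : Type u) [CommRing S] [IsLocalRing S]
  [Algebra R S] [IsLocalHom (algebraMap R S)] [hS : Hensel.IsStrictHenselization R S]

theorem map_maximalIdeal_of_isStrictHenselization :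
    (IsLocalRing.maximalIdeal R).map (algebraMap R S) = IsLocalRing.maximalIdeal S := by
  obtain ⟨e, -⟩ := exists_algEquiv_Model R S
  ext s
  rw [← Hens.mem_map_algEquiv_iff e, map_maximalIdeal_G, IsLocalRing.mem_maximalIdeal,
    IsLocalRing.mem_maximalIdeal, mem_nonunits_iff, mem_nonunits_iff, isUnit_map_iff]

theorem flat_of_isStrictHenselization : Module.Flat R S := by
  obtain ⟨e, -⟩ := exists_algEquiv_Model R S
  have : Module.Flat R (Model R S) := flat
  exact Module.Flat.of_linearEquiv e.toLinearEquiv

theorem faithfullyFlat_of_isStrictHenselization : Module.FaithfullyFlat R S := by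
  have : Module.Flat R S := flat_of_isStrictHenselization R S
  exact Module.FaithfullyFlat.of_flat_of_isLocalHom

theorem formallyEtale_of_isStrictHenselization : Algebra.FormallyEtale R S := by
  obtain ⟨e, -⟩ := exists_algEquiv_Model R S
  have : Algebra.FormallyEtale R (Model R S) := formallyEtale_G
  exact Algebra.FormallyEtale.of_equiv e.symm

theorem isReduced_iff_of_isStrictHenselization : IsReduced S ↔ IsReduced R := by
  constructor
  · intro h
    have hff : Module.FaithfullyFlat R S := faithfullyFlat_of_isStrictHenselization R S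
    exact isReduced_of_injective (algebraMap R S) (FaithfulSMul.algebraMap_injective R S)
  · intro h
    obtain ⟨e, -⟩ := exists_algEquiv_Model R S
    have : IsReduced (Model R S) := isReduced_G
    exact isReduced_of_injective e.toAlgHom e.injective

end Groth.Agent.Helper7.SHens
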