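import Mathlib
import Groth.Agent.Lib.Helper7.SHens.Abstract
import Groth.Agent.Lib.Helper7.Hens.Abstract2

/-!
# Krull dimension of (strict) henselizations
-/

namespace Groth.Agent.Helper7.SHens

universe u v

/-- Incomparability of primes in an algebra which is a union of images of quasi-finite
algebras. -/
theorem eq_of_le_of_under_eq_of_forall_exists_quasiFinite {A : Type*} {B : Type*} [CommRing A]
    [CommRing B] [Algebra A B]
    (hB : ∀ b : B, ∃ (E : Type v) (_ : CommRing E) (_ : Algebra A E) (_ : Algebra.QuasiFinite A E)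
      (φ : E →ₐ[A] B), b ∈ φ.range)
    (P Q : Ideal B) [P.IsPrime] [Q.IsPrime] (h₁ : P ≤ Q) (h₂ : P.under A = Q.under A) : P = Q := by
  apply le_antisymm h₁
  intro b hb
  obtain ⟨E, _, _, _, φ, x, rfl⟩ := hB b
  have hP : (P.comap φ).IsPrime := Ideal.comap_isPrime _ _
  have hQ : (Q.comap φ).IsPrime := Ideal.comap_isPrime _ _
  have hle : P.comap φ ≤ Q.comap φ := Ideal.comap_mono h₁
  have hunder : ∀ I : Ideal B, (I.comap φ).under A = I.under A := by
    intro I
    ext a
    simp only [Ideal.under, Ideal.mem_comap, AlgHom.commutes]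
  have heq : P.comap φ = Q.comap φ :=
    Algebra.QuasiFinite.eq_of_le_of_under_eq (R := A) _ _ hle (by rw [hunder, hunder, h₂])
  have : x ∈ Q.comap φ := hb
  rw [← heq] at this
  exact this

theorem ringKrullDim_le_of_forall_exists_quasiFinite {A : Type*} {B : Type*} [CommRing A]
    [CommRing B] [Algebra A B]
    (hB : ∀ b : B, ∃ (E : Type v) (_ : CommRing E) (_ : Algebra A E) (_ : Algebra.QuasiFinite A E)
      (φ : E →ₐ[A] B), b ∈ φ.range) :
    ringKrullDim B ≤ ringKrullDim A := by
  apply Order.krullDim_le_of_strictMono (PrimeSpectrum.comap (algebraMap A B))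
  intro p q hpq
  have hle : PrimeSpectrum.comap (algebraMap A B) p ≤ PrimeSpectrum.comap (algebraMap A B) q :=
    Ideal.comap_mono (le_of_lt hpq)
  refine lt_of_le_of_ne hle (fun heq => ?_)
  have h2 : p.asIdeal.under A = q.asIdeal.under A := congrArg PrimeSpectrum.asIdeal heq
  have := eq_of_le_of_under_eq_of_forall_exists_quasiFinite hB p.asIdeal q.asIdeal
    (le_of_lt hpq) h2
  exact (ne_of_lt hpq) (PrimeSpectrum.ext this)

theorem ringKrullDim_le_of_faithfullyFlat (A : Type*) (B : Type*) [CommRing A] [CommRing B]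
    [Algebra A B] [Module.FaithfullyFlat A B] : ringKrullDim A ≤ ringKrullDim B := by
  apply iSup_le
  intro l
  obtain ⟨P, hP⟩ := PrimeSpectrum.comap_surjective_of_faithfullyFlat (A := A) (B := B) l.last
  have hlo : P.asIdeal.LiesOver l.last.asIdeal := ⟨by rw [← hP]; rfl⟩
  obtain ⟨L, hlen, -, -⟩ := Ideal.exists_ltSeries_of_hasGoingDown l P.asIdeal
  rw [← hlen]
  exact Order.LTSeries.length_le_krullDim L

theorem ringKrullDim_G_le {A : Type u} [CommRing A] {Ω : Type u} [CommRing Ω] [Algebra A Ω] :
    ringKrullDim (G A Ω) ≤ ringKrullDim A := by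
  apply ringKrullDim_le_of_forall_exists_quasiFinite.{u}
  intro b
  obtain ⟨U, x, rfl⟩ := exists_rep b
  exact ⟨U.Ring, inferInstance, inferInstance, inferInstance, ιAlg U, x, rfl⟩

theorem ringKrullDim_of_isStrictHenselization (R : Type u) [CommRing R] [IsLocalRing R]
    (S : Type u) [CommRing S] [IsLocalRing S] [Algebra R S] [IsLocalHom (algebraMap R S)]
    [Hensel.IsStrictHenselization R S] : ringKrullDim S = ringKrullDim R := by
  apply le_antisymm
  · obtain ⟨e, -⟩ := exists_algEquiv_Model R S
    rw [ringKrullDim_eq_of_ringEquiv e.toRingEquiv]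
    exact ringKrullDim_G_le
  · have := faithfullyFlat_of_isStrictHenselization R S
    exact ringKrullDim_le_of_faithfullyFlat R S

end Groth.Agent.Helper7.SHens

namespace Groth.Agent.Helper7.Hens

universe u

theorem ringKrullDim_H_le {A : Type u} [CommRing A] {I : Ideal A} :
    ringKrullDim (H A I) ≤ ringKrullDim A := by
  apply SHens.ringKrullDim_le_of_forall_exists_quasiFinite.{u}
  intro b
  obtain ⟨U, x, rfl⟩ := exists_rep b
  exact ⟨U.Ring, inferInstance, inferInstance, inferInstance, ιAlg U, x, rfl⟩

theorem ringKrullDim_of_isHenselization (R : Type u) [CommRing R] [IsLocalRing R]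
    (S : Type u) [CommRing S] [IsLocalRing S] [Algebra R S] [IsLocalHom (algebraMap R S)]
    [Hensel.IsHenselization R S] : ringKrullDim S = ringKrullDim R := by
  apply le_antisymm
  · obtain ⟨e⟩ := nonempty_algEquiv_H (isPairHenselization_of_isHenselization R S)
    rw [ringKrullDim_eq_of_ringEquiv e.toRingEquiv]
    exact ringKrullDim_H_le
  · have : Module.Flat R S := flat_of_isHenselization R S
    have hff : Module.FaithfullyFlat R S := Module.FaithfullyFlat.of_flat_of_isLocalHom
    exact SHens.ringKrullDim_le_of_faithfullyFlat R S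

end Groth.Agent.Helper7.Hens
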