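import Mathlib
import Groth.Agent.Lib.Helper7.SHens.DepthFlat2
import Groth.Agent.Lib.Helper7.SHens.Dim

/-!
# Flat local homomorphisms with artinian closed fibre: dimension, depth, Cohen–Macaulayness
-/

set_option autoImplicit false

namespace Groth.Agent.Helper7.SHens

universe u

open IsLocalRing LocCoh Groth.Agent.Helper8.Depth

theorem ringKrullDim_eq_of_flat_of_pow_le (R S : Type*) [CommRing R] [CommRing S]
    [IsLocalRing R] [IsNoetherianRing R] [IsLocalRing S] [IsNoetherianRing S] [Algebra R S]
    [IsLocalHom (algebraMap R S)] [Module.Flat R S] (k : ℕ)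
    (hm : maximalIdeal S ^ k ≤ (maximalIdeal R).map (algebraMap R S)) :
    ringKrullDim S = ringKrullDim R := by
  classical
  have hff : Module.FaithfullyFlat R S := Module.FaithfullyFlat.of_flat_of_isLocalHom
  apply le_antisymm _ (ringKrullDim_le_of_faithfullyFlat R S)
  obtain ⟨s, hs, hcard⟩ := (maximalIdeal R).exists_finset_card_eq_height_of_isNoetherianRing
  have hmS : (maximalIdeal R).map (algebraMap R S) ≤ maximalIdeal S :=
    ((IsLocalRing.local_hom_TFAE (algebraMap R S)).out 0 2).mp ‹_›
  have hmin : maximalIdeal S ∈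
      (Ideal.span ((s.image (algebraMap R S) : Finset S) : Set S)).minimalPrimes := by
    have hspan : Ideal.span ((s.image (algebraMap R S) : Finset S) : Set S) =
        (Ideal.span (s : Set R)).map (algebraMap R S) := by
      rw [Ideal.map_span, Finset.coe_image]
    rw [hspan]
    refine ⟨⟨inferInstance, (Ideal.map_mono hs.1.2).trans hmS⟩, ?_⟩
    rintro Q ⟨hQ, hQle⟩ hQm
    have h1 : Ideal.span (s : Set R) ≤ Q.comap (algebraMap R S) := by
      rw [← Ideal.map_le_iff_le_comap]
      exact hQle
    have h2 : Q.comap (algebraMap R S) ≤ maximalIdeal R :=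
      IsLocalRing.le_maximalIdeal (Ideal.comap_ne_top _ hQ.ne_top)
    have h3 : maximalIdeal R ≤ Q.comap (algebraMap R S) :=
      hs.2 ⟨Ideal.comap_isPrime _ _, h1⟩ h2
    have h4 : (maximalIdeal R).map (algebraMap R S) ≤ Q := by
      rw [Ideal.map_le_iff_le_comap]
      exact h3
    exact hQ.le_of_pow_le (hm.trans h4)
  have h5 := Ideal.height_le_card_of_mem_minimalPrimes_span_finset hmin
  have h6 : ((s.image (algebraMap R S)).card : ℕ∞) ≤ (maximalIdeal R).height := by
    rw [← hcard]
    exact_mod_cast Finset.card_image_le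
  rw [← IsLocalRing.maximalIdeal_height_eq_ringKrullDim,
    ← IsLocalRing.maximalIdeal_height_eq_ringKrullDim]
  exact_mod_cast h5.trans h6

theorem cm_iff_of_depth_eq_of_dim_eq (R S : Type u) [CommRing R] [CommRing S]
    [IsLocalRing R] [IsNoetherianRing R] [IsLocalRing S] [IsNoetherianRing S]
    (hdepth : depth S S = depth R R) (hdim : ringKrullDim S = ringKrullDim R) :
    IsCohenMacaulayLocalRing S ↔ IsCohenMacaulayLocalRing R := by
  constructor
  · intro h
    refine ⟨?_⟩
    have h1 := h.supportDim_eq_depth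
    rw [Module.supportDim_self_eq_ringKrullDim] at h1 ⊢
    rw [← hdim, h1, hdepth]
  · intro h
    refine ⟨?_⟩
    have h1 := h.supportDim_eq_depth
    rw [Module.supportDim_self_eq_ringKrullDim] at h1 ⊢
    rw [hdim, h1, hdepth]

theorem cm_iff_of_flat_of_pow_le (R S : Type u) [CommRing R] [CommRing S]
    [IsLocalRing R] [IsNoetherianRing R] [IsLocalRing S] [IsNoetherianRing S] [Algebra R S]
    [IsLocalHom (algebraMap R S)] [Module.Flat R S] (k : ℕ)
    (hm : maximalIdeal S ^ k ≤ (maximalIdeal R).map (algebraMap R S)) :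
    IsCohenMacaulayLocalRing S ↔ IsCohenMacaulayLocalRing R :=
  cm_iff_of_depth_eq_of_dim_eq R S (depth_eq_of_flat_of_pow_le R S k hm)
    (ringKrullDim_eq_of_flat_of_pow_le R S k hm)

end Groth.Agent.Helper7.SHens
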