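import Mathlib
import Groth.Agent.Lib.Helper7.SHens.Abstract
import Groth.Agent.Lib.Helper7.Hens.Unique

/-!
# The henselization as the colimit `G R κ(R)`
-/

namespace Groth.Agent.Helper7.SHens

universe u

variable (R : Type u) [CommRing R] [IsLocalRing R]

/-- The model of the henselization: étale neighbourhoods with trivial residue field extension. -/
abbrev HModel : Type u := G R (IsLocalRing.ResidueField R)

/-- The residue field of the model is the residue field of `R`. -/
noncomputable def hmodelRes :
    IsLocalRing.ResidueField (HModel R) ≃ₐ[IsLocalRing.ResidueField R]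
      IsLocalRing.ResidueField R :=
  resEquiv R (IsLocalRing.ResidueField R)

theorem residueField_map_HModel_surjective :
    Function.Surjective (IsLocalRing.ResidueField.map (algebraMap R (HModel R))) := by
  intro y
  refine ⟨hmodelRes R y, ?_⟩
  apply (hmodelRes R).injective
  rw [residueField_map_algebraMap, AlgEquiv.commutes]
  rfl

theorem isHenselization_HModel : Hensel.IsHenselization R (HModel R) where
  henselian := henselianLocalRing_G R _
  universal T _ _ f hf := by
    let τ : IsLocalRing.ResidueField (HModel R) →+* IsLocalRing.ResidueField T :=
      (IsLocalRing.ResidueField.map f).comp (hmodelRes R : _ →+* IsLocalRing.ResidueField R)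
    have hτ : τ.comp (IsLocalRing.ResidueField.map (algebraMap R (HModel R)))
        = IsLocalRing.ResidueField.map f := by
      ext x
      simp only [τ, RingHom.comp_apply]
      rw [residueField_map_algebraMap]
      have : (hmodelRes R) (algebraMap _ _ x) = x := by
        rw [AlgEquiv.commutes]
        rfl
      exact congrArg _ this
    obtain ⟨g, ⟨hg1, hg2⟩, hguniq⟩ := universal (K := IsLocalRing.ResidueField R) T f τ hτ
    refine ⟨g, hg1, ?_⟩
    intro g' hg'
    apply hguniq
    refine ⟨hg', ?_⟩
    -- `g'` is local
    have hloc : IsLocalHom g' := by
      apply ((IsLocalRing.local_hom_TFAE g').out 0 2 rfl rfl).mpr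
      rw [← map_maximalIdeal_G R (IsLocalRing.ResidueField R), Ideal.map_map, hg']
      exact ((IsLocalRing.local_hom_TFAE f).out 0 2 rfl rfl).mp hf
    intro x
    obtain ⟨y, hy⟩ := residueField_map_HModel_surjective R (IsLocalRing.residue _ x)
    rw [← IsLocalRing.ResidueField.map_residue g', ← hy, ← RingHom.comp_apply τ,
      hτ, ← RingHom.comp_apply, ← IsLocalRing.ResidueField.map_comp]
    congr 2

/-- Every henselization is isomorphic to the model. -/
theorem nonempty_algEquiv_HModel (S : Type u) [CommRing S] [IsLocalRing S] [Algebra R S]
    [IsLocalHom (algebraMap R S)] [Hensel.IsHenselization R S] :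
    Nonempty (S ≃ₐ[R] HModel R) := by
  have := isHenselization_HModel R
  exact Hens.nonempty_algEquiv_of_isHenselization R S (HModel R)

end Groth.Agent.Helper7.SHens
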