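import Mathlib
import Groth.Agent.Lib.Helper1.LocalCrit

/-!
# Criteria used for Noetherianity of henselizations
-/

open TensorProduct

namespace Groth.Agent.Helper7.SHens

universe u v w

/-- Noetherianity descends along faithfully flat ring maps. -/
theorem isNoetherianRing_of_faithfullyFlat (A : Type*) (B : Type*) [CommRing A] [CommRing B]
    [Algebra A B] [Module.FaithfullyFlat A B] [IsNoetherianRing B] : IsNoetherianRing A := by
  rw [isNoetherianRing_iff, isNoetherian_iff']
  have hB : WellFoundedGT (Ideal B) := by
    rw [← isNoetherian_iff', ← isNoetherianRing_iff]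
    infer_instance
  have hmono : StrictMono (fun I : Ideal A => I.map (algebraMap A B)) := by
    intro I J hIJ
    refine lt_of_le_of_ne (Ideal.map_mono hIJ.le) (fun h => ?_)
    have := congrArg (Ideal.comap (algebraMap A B)) h
    rw [Ideal.comap_map_eq_self_of_faithfullyFlat, Ideal.comap_map_eq_self_of_faithfullyFlat]
      at this
    exact hIJ.ne this
  exact StrictMono.wellFoundedGT hmono

/-- Local criterion of flatness, "all quotients" form. -/
theorem flat_of_forall_flat_quotient_pow {R : Type u} {S : Type v} {M : Type w}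
    [CommRing R] [CommRing S] [IsNoetherianRing R] [IsNoetherianRing S] [IsLocalRing S]
    [Algebra R S] [AddCommGroup M] [Module R M] [Module S M] [IsScalarTower R S M]
    [Module.Finite S M] (I : Ideal R) (hI : I.map (algebraMap R S) ≠ ⊤)
    (h : ∀ n : ℕ, 0 < n → Module.Flat (R ⧸ I ^ n) ((R ⧸ I ^ n) ⊗[R] M)) : Module.Flat R M := by
  rw [Module.Flat.iff_rTensor_injective']
  intro J
  rw [injective_iff_map_eq_zero]
  intro x hx
  have hc : ∀ n : ℕ, 0 < n → ∀ Q : Submodule R (R ⧸ I ^ n),
      Function.Injective (Q.subtype.rTensor M) := by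
    intro n hn Q
    have := h n hn
    exact Groth.Agent.Helper1.LocalCrit.rTensor_subtype_injective_of_surjective (R ⧸ I ^ n) M
      Ideal.Quotient.mk_surjective Q
  have hmem := Groth.Agent.Helper1.LocalCrit.mem_pow_smul_top_of_rTensor_eq_zero M I hc J x hx
  have : Module.Finite R J := Module.Finite.of_fg (IsNoetherian.noetherian J)
  have := Groth.Agent.Helper1.LocalCrit.finite_tensorProduct (R := R) (S := S) M J
  have : TensorProduct.comm R J M x = 0 := by
    apply Groth.Agent.Helper1.LocalCrit.iInf_pow_smul_top_eq_bot (S := S) I hI (M ⊗[R] J)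
    intro n
    have h3 : Submodule.map (TensorProduct.comm R J M).toLinearMap
        (I ^ n • (⊤ : Submodule R (J ⊗[R] M))) = I ^ n • ⊤ := by
      rw [Submodule.map_smul'', Submodule.map_top, LinearEquiv.range]
    rw [← h3]
    exact Submodule.mem_map_of_mem (hmem n)
  exact (TensorProduct.comm R J M).injective (by rw [this, map_zero])

/-- If a linear map induces a bijection modulo `I`, then its base change to `R ⧸ I` is
bijective. -/
theorem lTensor_quotient_bijective {R : Type*} [CommRing R] (I : Ideal R) {M N : Type*}
    [AddCommGroup M] [Module R M] [AddCommGroup N] [Module R N] (f : M →ₗ[R] N)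
    (hinj : ∀ x : M, f x ∈ I • (⊤ : Submodule R N) → x ∈ I • (⊤ : Submodule R M))
    (hsurj : ∀ y : N, ∃ x : M, y - f x ∈ I • (⊤ : Submodule R N)) :
    Function.Bijective (f.lTensor (R ⧸ I)) := by
  have hle : I • (⊤ : Submodule R M) ≤ (I • (⊤ : Submodule R N)).comap f := by
    rw [← Submodule.map_le_iff_le_comap, Submodule.map_smul'']
    exact Submodule.smul_mono le_rfl le_top
  let g : (M ⧸ I • (⊤ : Submodule R M)) →ₗ[R] (N ⧸ I • (⊤ : Submodule R N)) :=
    Submodule.mapQ _ _ f hle
  have hg : Function.Bijective g := by
    constructor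
    · rw [injective_iff_map_eq_zero]
      intro x hx
      obtain ⟨x, rfl⟩ := Submodule.mkQ_surjective _ x
      rw [Submodule.mkQ_apply, Submodule.mapQ_apply, Submodule.Quotient.mk_eq_zero] at hx
      rw [Submodule.mkQ_apply, Submodule.Quotient.mk_eq_zero]
      exact hinj x hx
    · intro y
      obtain ⟨y, rfl⟩ := Submodule.mkQ_surjective _ y
      obtain ⟨x, hx⟩ := hsurj y
      refine ⟨Submodule.Quotient.mk x, ?_⟩
      rw [Submodule.mapQ_apply, Submodule.mkQ_apply, eq_comm, Submodule.Quotient.eq]
      exact hx
  have hcomm : ∀ z, TensorProduct.quotTensorEquivQuotSMul N I (f.lTensor (R ⧸ I) z)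
      = g (TensorProduct.quotTensorEquivQuotSMul M I z) := by
    intro z
    induction z using TensorProduct.induction_on with
    | zero => simp
    | tmul a m =>
      obtain ⟨r, rfl⟩ := Ideal.Quotient.mk_surjective a
      rw [LinearMap.lTensor_tmul, TensorProduct.quotTensorEquivQuotSMul_mk_tmul,
        TensorProduct.quotTensorEquivQuotSMul_mk_tmul, Submodule.mapQ_apply, map_smul]
    | add x y hx hy => rw [map_add, map_add, map_add, map_add, hx, hy]
  have h1 : ⇑(f.lTensor (R ⧸ I)) = (TensorProduct.quotTensorEquivQuotSMul N I).symm ∘ g ∘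
      (TensorProduct.quotTensorEquivQuotSMul M I) := by
    funext z
    simp only [Function.comp_apply]
    rw [← hcomm, LinearEquiv.symm_apply_apply]
  rw [h1]
  exact (TensorProduct.quotTensorEquivQuotSMul N I).symm.bijective.comp
    (hg.comp (TensorProduct.quotTensorEquivQuotSMul M I).bijective)

end Groth.Agent.Helper7.SHens
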