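import Mathlib
import Groth.Agent.Lib.Helper7.SHens.NoethCrit
import Groth.Agent.Lib.Helper2.CompleteNoeth

/-!
# A local ring which is a flat "colimit" of Noetherian rings generating its maximal ideal
is Noetherian
-/

open TensorProduct

namespace Groth.Agent.Helper7.SHens

universe u

section Stage

variable {G : Type u} [CommRing G] [IsLocalRing G] (hfg : (IsLocalRing.maximalIdeal G).FG)
  {E : Type u} [CommRing E] [IsNoetherianRing E] [Algebra E G] [Module.Flat E G]
  (I : Ideal E) (hI : I.map (algebraMap E G) = IsLocalRing.maximalIdeal G)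

omit [IsNoetherianRing E] [Module.Flat E G] in
include hI in
theorem pow_smul_top_eq_restrictScalars (N : Type*) [AddCommGroup N] [Module E N] [Module G N]
    [IsScalarTower E G N] (n : ℕ) :
    I ^ n • (⊤ : Submodule E N) =
      ((IsLocalRing.maximalIdeal G) ^ n • (⊤ : Submodule G N)).restrictScalars E := by
  rw [← hI]
  exact (Groth.Agent.Helper1.LocalCrit.pow_smul_top_restrictScalars (S := G) I N n).symm

omit [IsNoetherianRing E] in
include hfg hI in
theorem flat_quotient_completion (n : ℕ) :
    Module.Flat (E ⧸ I ^ n)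
      ((E ⧸ I ^ n) ⊗[E] AdicCompletion (IsLocalRing.maximalIdeal G) G) := by
  let 𝔪 := IsLocalRing.maximalIdeal G
  let f : G →ₗ[E] AdicCompletion 𝔪 G := (AdicCompletion.of 𝔪 G).restrictScalars E
  have hker : ∀ y : AdicCompletion 𝔪 G,
      y ∈ I ^ n • (⊤ : Submodule E (AdicCompletion 𝔪 G)) ↔ AdicCompletion.eval 𝔪 G n y = 0 := by
    intro y
    rw [pow_smul_top_eq_restrictScalars I hI (AdicCompletion 𝔪 G) n,
      Submodule.restrictScalars_mem, AdicCompletion.pow_smul_top_eq_ker_eval hfg,
      LinearMap.mem_ker]
  have hG : ∀ x : G, x ∈ I ^ n • (⊤ : Submodule E G) ↔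
      Submodule.mkQ (𝔪 ^ n • (⊤ : Submodule G G)) x = 0 := by
    intro x
    rw [pow_smul_top_eq_restrictScalars I hI G n, Submodule.restrictScalars_mem,
      Submodule.mkQ_apply, Submodule.Quotient.mk_eq_zero]
  have hb : Function.Bijective (f.lTensor (E ⧸ I ^ n)) := by
    apply lTensor_quotient_bijective (I ^ n) f
    · intro x hx
      rw [hG]
      rw [hker] at hx
      exact hx
    · intro y
      obtain ⟨x, hx⟩ := Submodule.mkQ_surjective _ (AdicCompletion.eval 𝔪 G n y)
      refine ⟨x, ?_⟩
      rw [hker, map_sub, sub_eq_zero]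
      exact hx.symm
  have hb' : Function.Bijective (f.baseChange (E ⧸ I ^ n)) := by
    rw [LinearMap.baseChange_eq_ltensor]
    exact hb
  exact Module.Flat.of_linearEquiv (LinearEquiv.ofBijective _ hb').symm

include hfg hI in
/-- The completion of `G` is flat over every stage. -/
theorem flat_completion_of_stage :
    Module.Flat E (AdicCompletion (IsLocalRing.maximalIdeal G) G) := by
  let 𝔪 := IsLocalRing.maximalIdeal G
  have hN : IsNoetherianRing (AdicCompletion 𝔪 G) := by
    have : IsNoetherianRing (G ⧸ 𝔪) := by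
      let _ : Field (G ⧸ 𝔪) := Ideal.Quotient.field 𝔪
      infer_instance
    exact Groth.Agent.Helper2.CompleteNoeth.isNoetherianRing_adicCompletion G 𝔪 hfg
  have hL : IsLocalRing (AdicCompletion 𝔪 G) := AdicCompletion.isLocalRing_of_fg hfg
  have hloc : IsLocalHom (algebraMap G (AdicCompletion 𝔪 G)) :=
    AdicCompletion.algebraMap_isLocalHom_of_fg hfg
  apply flat_of_forall_flat_quotient_pow (R := E) (S := AdicCompletion 𝔪 G) I
  · rw [IsScalarTower.algebraMap_eq E G (AdicCompletion 𝔪 G), ← Ideal.map_map, hI]
    intro h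
    have h1 := ((IsLocalRing.local_hom_TFAE (algebraMap G (AdicCompletion 𝔪 G))).out 0 2
      rfl rfl).mp hloc
    rw [h] at h1
    exact (IsLocalRing.maximalIdeal.isMaximal (AdicCompletion 𝔪 G)).ne_top (top_le_iff.mp h1)
  · intro n _
    exact flat_quotient_completion hfg I hI n

end Stage

/-- **EGA 0_III 10.3.1.3**: a local ring with finitely generated maximal ideal `𝔪` which is, for
every finite subset, flat over a Noetherian ring containing the subset in its image and
carrying an ideal generating `𝔪`, is Noetherian. -/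
theorem isNoetherianRing_of_stages (G : Type u) [CommRing G] [IsLocalRing G]
    (hfg : (IsLocalRing.maximalIdeal G).FG)
    (hst : ∀ {l : ℕ} (g : Fin l → G), ∃ (E : Type u) (_ : CommRing E) (_ : IsNoetherianRing E)
      (_ : Algebra E G) (_ : Module.Flat E G) (I : Ideal E),
      I.map (algebraMap E G) = IsLocalRing.maximalIdeal G ∧
        ∀ i, g i ∈ (algebraMap E G).range) : IsNoetherianRing G := by
  let 𝔪 := IsLocalRing.maximalIdeal G
  have hN : IsNoetherianRing (AdicCompletion 𝔪 G) := by
    have : IsNoetherianRing (G ⧸ 𝔪) := by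
      let _ : Field (G ⧸ 𝔪) := Ideal.Quotient.field 𝔪
      infer_instance
    exact Groth.Agent.Helper2.CompleteNoeth.isNoetherianRing_adicCompletion G 𝔪 hfg
  have hL : IsLocalRing (AdicCompletion 𝔪 G) := AdicCompletion.isLocalRing_of_fg hfg
  have hloc : IsLocalHom (algebraMap G (AdicCompletion 𝔪 G)) :=
    AdicCompletion.algebraMap_isLocalHom_of_fg hfg
  have hflat : Module.Flat G (AdicCompletion 𝔪 G) := by
    apply Module.Flat.of_forall_isTrivialRelation
    intro l f x hfx
    obtain ⟨E, _, _, _, _, I, hI, hrange⟩ := hst f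
    choose e he using hrange
    have hflatE : Module.Flat E (AdicCompletion 𝔪 G) := flat_completion_of_stage hfg I hI
    have htriv : Module.IsTrivialRelation e x := by
      apply Module.Flat.isTrivialRelation_of_sum_smul_eq_zero (R := E)
        (M := AdicCompletion 𝔪 G) (f := e) (x := x)
      rw [← hfx]
      apply Finset.sum_congr rfl
      intro i _
      rw [← he i, algebraMap_smul]
    obtain ⟨k, a, y, hy1, hy2⟩ := htriv
    refine ⟨k, fun i j => algebraMap E G (a i j), y, ?_, ?_⟩
    · intro i
      rw [hy1 i]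
      apply Finset.sum_congr rfl
      intro j _
      rw [algebraMap_smul]
    · intro j
      have := congrArg (algebraMap E G) (hy2 j)
      rw [map_sum, map_zero] at this
      rw [← this]
      apply Finset.sum_congr rfl
      intro i _
      rw [map_mul, he i]
  have hff : Module.FaithfullyFlat G (AdicCompletion 𝔪 G) :=
    Module.FaithfullyFlat.of_flat_of_isLocalHom
  exact isNoetherianRing_of_faithfullyFlat G (AdicCompletion 𝔪 G)

end Groth.Agent.Helper7.SHens
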