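import Mathlib
import Groth.Agent.Lib.Helper7.SHens.NoethMain
import Groth.Agent.Lib.Helper7.SHens.HensModel

/-!
# Noetherianity of (strict) henselizations
-/

open CategoryTheory TensorProduct

namespace Groth.Agent.Helper7.SHens

universe u

section FlatStage

variable {A : Type u} [CommRing A] {Ω : Type u} [CommRing Ω] [Algebra A Ω]

/-- The colimit as an algebra over a stage. -/
@[reducible] noncomputable def stageAlgebra (U₀ : Nbhd A Ω) : Algebra U₀.Ring (G A Ω) :=
  (ι U₀).toAlgebra

/-- The colimit `G A Ω` is flat over every stage. -/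
theorem flat_stage (U₀ : Nbhd A Ω) [Algebra U₀.Ring (G A Ω)]
    (halg : ∀ x, algebraMap U₀.Ring (G A Ω) x = ι U₀ x) : Module.Flat U₀.Ring (G A Ω) := by
  apply Module.Flat.of_forall_isTrivialRelation
  intro l f x hfx
  obtain ⟨U, h, ξ, hξ⟩ := exists_rep_fin U₀ x
  have h1 : ι U (∑ i, (h : Nbhd.Hom U₀ U).toAlgHom (f i) * ξ i) = ι U 0 := by
    rw [map_sum, map_zero, ← hfx]
    apply Finset.sum_congr rfl
    intro i _
    rw [map_mul, ι_hom, hξ, Algebra.smul_def, halg]
  obtain ⟨V, g, hg⟩ := exists_hom_eq_of_ι_eq _ _ h1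
  rw [map_zero, map_sum] at hg
  let k : U₀ ⟶ V := h ≫ g
  let _ : Algebra U₀.Ring V.Ring := ((k : Nbhd.Hom U₀ V).toAlgHom : U₀.Ring →+* V.Ring).toAlgebra
  have halgV : ∀ z : U₀.Ring, algebraMap U₀.Ring V.Ring z = (k : Nbhd.Hom U₀ V).toAlgHom z :=
    fun _ => rfl
  have htower : IsScalarTower A U₀.Ring V.Ring :=
    IsScalarTower.of_algebraMap_eq (fun a => ((k : Nbhd.Hom U₀ V).toAlgHom.commutes a).symm)
  have het : Algebra.Etale U₀.Ring V.Ring := Algebra.Etale.of_restrictScalars A U₀.Ring V.Ring
  have hflat : Module.Flat U₀.Ring V.Ring := inferInstance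
  have h2 : ∑ i, f i • (g : Nbhd.Hom U V).toAlgHom (ξ i) = 0 := by
    rw [← hg]
    apply Finset.sum_congr rfl
    intro i _
    rw [map_mul, Algebra.smul_def, halgV]
    rfl
  have htriv : Module.IsTrivialRelation f (fun i => (g : Nbhd.Hom U V).toAlgHom (ξ i)) := by
    apply Module.Flat.isTrivialRelation_of_sum_smul_eq_zero
    exact h2
  obtain ⟨m, a, y, hy1, hy2⟩ := htriv
  refine ⟨m, a, fun j => ι V (y j), ?_, hy2⟩
  intro i
  have hy1' : (g : Nbhd.Hom U V).toAlgHom (ξ i) = ∑ j, a i j • y j := hy1 i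
  rw [← hξ i, ← ι_hom g, hy1', map_sum]
  apply Finset.sum_congr rfl
  intro j _
  have e1 : a i j • y j = ((k : Nbhd.Hom U₀ V).toAlgHom (a i j)) * y j := by
    rw [Algebra.smul_def, halgV]
  have e2 : a i j • ι V (y j) = ι U₀ (a i j) * ι V (y j) := by
    rw [Algebra.smul_def, halg]
  rw [e1, e2, map_mul, ι_hom]

end FlatStage

section Noeth

variable (R : Type u) [CommRing R] [IsLocalRing R] [IsNoetherianRing R] (K : Type u) [Field K]
  [Algebra R K] [Algebra (IsLocalRing.ResidueField R) K]
  [IsScalarTower R (IsLocalRing.ResidueField R) K]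

theorem isNoetherianRing_G : IsNoetherianRing (G R K) := by
  apply isNoetherianRing_of_stages (G R K)
  · rw [← map_maximalIdeal_G R K]
    exact Ideal.FG.map (IsNoetherian.noetherian _) _
  · intro l g
    obtain ⟨U, -, ξ, hξ⟩ := exists_rep_fin (Nbhd.base R K) g
    have hN : IsNoetherianRing U.Ring := Algebra.FiniteType.isNoetherianRing R U.Ring
    refine ⟨U.Ring, inferInstance, hN, stageAlgebra U,
      @flat_stage _ _ _ _ _ U (stageAlgebra U) (fun _ => rfl),
      (IsLocalRing.maximalIdeal R).map (algebraMap R U.Ring), ?_, ?_⟩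
    · rw [← map_maximalIdeal_G R K]
      show Ideal.map (ι U) _ = _
      rw [Ideal.map_map]
      congr 1
      ext r
      exact ι_algebraMap U r
    · intro i
      exact ⟨ξ i, hξ i⟩

end Noeth

theorem isNoetherianRing_iff_of_isStrictHenselization (R : Type u) [CommRing R] [IsLocalRing R]
    (S : Type u) [CommRing S] [IsLocalRing S] [Algebra R S] [IsLocalHom (algebraMap R S)]
    [Hensel.IsStrictHenselization R S] : IsNoetherianRing R ↔ IsNoetherianRing S := by
  constructor
  · intro h
    obtain ⟨e, -⟩ := exists_algEquiv_Model R S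
    have := isNoetherianRing_G R (IsLocalRing.ResidueField S)
    exact isNoetherianRing_of_ringEquiv _ e.symm.toRingEquiv
  · intro h
    have := faithfullyFlat_of_isStrictHenselization R S
    exact isNoetherianRing_of_faithfullyFlat R S

theorem isNoetherianRing_iff_of_isHenselization (R : Type u) [CommRing R] [IsLocalRing R]
    (S : Type u) [CommRing S] [IsLocalRing S] [Algebra R S] [IsLocalHom (algebraMap R S)]
    [Hensel.IsHenselization R S] : IsNoetherianRing R ↔ IsNoetherianRing S := by
  constructor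
  · intro h
    obtain ⟨e⟩ := nonempty_algEquiv_HModel R S
    have := isNoetherianRing_G R (IsLocalRing.ResidueField R)
    exact isNoetherianRing_of_ringEquiv _ e.symm.toRingEquiv
  · intro h
    have : Module.Flat R S := Hens.flat_of_isHenselization R S
    have hff : Module.FaithfullyFlat R S := Module.FaithfullyFlat.of_flat_of_isLocalHom
    exact isNoetherianRing_of_faithfullyFlat R S

end Groth.Agent.Helper7.SHens
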