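import Mathlib
import Groth.Agent.Lib.Helper7.SHens.Noeth
import Groth.Agent.Lib.Helper7.SHens.Dim

/-!
# Regularity of (strict) henselizations
-/

open IsLocalRing

namespace Groth.Agent.Helper7.SHens

universe u

section Span

variable {R S : Type*} [CommRing R] [CommRing S] [IsLocalRing R] [IsLocalRing S]
  [IsNoetherianRing S] [Algebra R S] [Module.FaithfullyFlat R S]

/-- The image subset of the maximal ideal of `S` attached to a subset of `R`. -/
def imageSet (t : Set R) : Set ↥(maximalIdeal S) :=
  {y | ∃ r ∈ t, (y : S) = algebraMap R S r}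

omit [IsLocalRing R] [IsNoetherianRing S] [Module.FaithfullyFlat R S] in
theorem span_imageSet (t : Set R) (ht : ∀ r ∈ t, algebraMap R S r ∈ maximalIdeal S) :
    (Submodule.span S (imageSet (S := S) t)).map (maximalIdeal S).subtype
      = Ideal.span (algebraMap R S '' t) := by
  rw [Submodule.map_span]
  congr 1
  ext y
  constructor
  · rintro ⟨z, ⟨r, hr, hz⟩, rfl⟩
    exact ⟨r, hr, hz.symm⟩
  · rintro ⟨r, hr, rfl⟩
    exact ⟨⟨algebraMap R S r, ht r hr⟩, ⟨r, hr, rfl⟩, rfl⟩

theorem spanFinrank_maximalIdeal_le_of_faithfullyFlat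
    (hm : (maximalIdeal R).map (algebraMap R S) = maximalIdeal S) :
    (maximalIdeal R).spanFinrank ≤ (maximalIdeal S).spanFinrank := by
  classical
  have hmem : ∀ r ∈ (maximalIdeal R : Set R), algebraMap R S r ∈ maximalIdeal S := by
    intro r hr
    rw [← hm]
    exact Ideal.mem_map_of_mem _ hr
  -- the image of the maximal ideal spans
  have hspan : Submodule.span S (imageSet (S := S) (maximalIdeal R : Set R)) = ⊤ := by
    apply Submodule.map_injective_of_injective (maximalIdeal S).subtype_injective
    rw [span_imageSet _ hmem, Submodule.map_top, Submodule.range_subtype]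
    exact hm
  have hspan' := (CotangentSpace.span_image_eq_top_iff (R := S)).mpr hspan
  obtain ⟨b, hbsub, hbspan, hbli⟩ := exists_linearIndependent (ResidueField S)
    ((maximalIdeal S).toCotangent '' imageSet (S := S) (maximalIdeal R : Set R))
  rw [hspan'] at hbspan
  have hbfin : b.Finite := hbli.setFinite
  have hcard : b.ncard = (maximalIdeal S).spanFinrank := by
    have := hbfin.fintype
    let B : Module.Basis b (ResidueField S) (CotangentSpace S) :=
      Module.Basis.mk hbli (by rw [Subtype.range_coe]; exact hbspan.ge)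
    rw [spanFinrank_maximalIdeal_eq_finrank_cotangentSpace, Module.finrank_eq_card_basis B,
      Set.ncard_eq_toFinset_card', Set.toFinset_card]
  -- choose preimages
  have hex : ∀ v ∈ b, ∃ r ∈ (maximalIdeal R : Set R), ∃ y : ↥(maximalIdeal S),
      (y : S) = algebraMap R S r ∧ (maximalIdeal S).toCotangent y = v := by
    intro v hv
    obtain ⟨y, ⟨r, hr, hy⟩, rfl⟩ := hbsub hv
    exact ⟨r, hr, y, hy, rfl⟩
  choose! ρ hρmem y hy hyv using hex
  let t : Set R := ρ '' b
  have htfin : t.Finite := hbfin.image ρ
  have htsub : t ⊆ (maximalIdeal R : Set R) := by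
    rintro _ ⟨v, hv, rfl⟩
    exact hρmem v hv
  have hbsub' : b ⊆ (maximalIdeal S).toCotangent '' imageSet (S := S) t := by
    intro v hv
    exact ⟨y v, ⟨ρ v, ⟨v, hv, rfl⟩, hy v hv⟩, hyv v hv⟩
  have hspant' : Submodule.span (ResidueField S)
      ((maximalIdeal S).toCotangent '' imageSet (S := S) t) = ⊤ := by
    rw [eq_top_iff, ← hbspan]
    exact Submodule.span_mono hbsub'
  have hspant := (CotangentSpace.span_image_eq_top_iff (R := S)).mp hspant'
  have hmapt : (Ideal.span t).map (algebraMap R S) = maximalIdeal S := by
    rw [Ideal.map_span, ← span_imageSet t (fun r hr => hmem r (htsub hr)), hspant,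
      Submodule.map_top, Submodule.range_subtype]
  have hI : Ideal.span t = maximalIdeal R := by
    rw [← Ideal.comap_map_eq_self_of_faithfullyFlat (B := S) (Ideal.span t), hmapt, ← hm,
      Ideal.comap_map_eq_self_of_faithfullyFlat]
  calc (maximalIdeal R).spanFinrank = (Ideal.span t).spanFinrank := by rw [hI]
    _ ≤ t.ncard := Submodule.spanFinrank_span_le_ncard_of_finite htfin
    _ ≤ b.ncard := Set.ncard_image_le hbfin
    _ = (maximalIdeal S).spanFinrank := hcard

end Span

theorem isRegularLocalRing_iff_of_faithfullyFlat (R S : Type*) [CommRing R] [CommRing S]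
    [IsLocalRing R] [IsLocalRing S] [IsNoetherianRing R] [IsNoetherianRing S] [Algebra R S]
    [Module.FaithfullyFlat R S]
    (hm : (maximalIdeal R).map (algebraMap R S) = maximalIdeal S)
    (hdim : ringKrullDim S = ringKrullDim R) :
    IsRegularLocalRing S ↔ IsRegularLocalRing R := by
  constructor
  · intro h
    apply IsRegularLocalRing.of_spanFinrank_maximalIdeal_le
    have h1 := spanFinrank_maximalIdeal_le_of_faithfullyFlat (R := R) (S := S) hm
    have h2 : ((maximalIdeal S).spanFinrank : WithBot ℕ∞) = ringKrullDim S :=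
      h.spanFinrank_maximalIdeal
    rw [← hdim, ← h2]
    exact_mod_cast h1
  · intro h
    apply IsRegularLocalRing.of_spanFinrank_maximalIdeal_le
    have h1 : (maximalIdeal S).spanFinrank ≤ (maximalIdeal R).spanFinrank := by
      rw [← hm]
      exact Ideal.spanFinrank_map_le_of_fg _ (IsNoetherian.noetherian _)
    have h2 : ((maximalIdeal R).spanFinrank : WithBot ℕ∞) = ringKrullDim R :=
      h.spanFinrank_maximalIdeal
    rw [hdim, ← h2]
    exact_mod_cast h1

theorem isRegularLocalRing_iff_of_isStrictHenselization (R S : Type u) [CommRing R]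
    [IsLocalRing R] [IsNoetherianRing R] [CommRing S] [IsLocalRing S] [Algebra R S]
    [IsLocalHom (algebraMap R S)] [Hensel.IsStrictHenselization R S] :
    IsRegularLocalRing S ↔ IsRegularLocalRing R := by
  have hff := faithfullyFlat_of_isStrictHenselization R S
  have hN : IsNoetherianRing S := (isNoetherianRing_iff_of_isStrictHenselization R S).mp inferInstance
  exact isRegularLocalRing_iff_of_faithfullyFlat R S
    (map_maximalIdeal_of_isStrictHenselization R S) (ringKrullDim_of_isStrictHenselization R S)

theorem isRegularLocalRing_iff_of_isHenselization (R S : Type u) [CommRing R]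
    [IsLocalRing R] [IsNoetherianRing R] [CommRing S] [IsLocalRing S] [Algebra R S]
    [IsLocalHom (algebraMap R S)] [Hensel.IsHenselization R S] :
    IsRegularLocalRing R ↔ IsRegularLocalRing S := by
  have : Module.Flat R S := Hens.flat_of_isHenselization R S
  have hff : Module.FaithfullyFlat R S := Module.FaithfullyFlat.of_flat_of_isLocalHom
  have hN : IsNoetherianRing S := (isNoetherianRing_iff_of_isHenselization R S).mp inferInstance
  exact (isRegularLocalRing_iff_of_faithfullyFlat R S
    (Hens.map_maximalIdeal_of_isHenselization R S) (Hens.ringKrullDim_of_isHenselization R S)).symm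

end Groth.Agent.Helper7.SHens
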