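import Mathlib
import Groth.Agent.Lib.Helper7.SHens.GDesc

/-!
# Base change of the colimit `G A Ω`

For an `A`-algebra `B`, the tensor product `B ⊗[A] G A Ω` is the filtered colimit of the
`B ⊗[A] U.Ring`.
-/

open CategoryTheory CategoryTheory.Limits TensorProduct

namespace Groth.Agent.Helper7.SHens

universe u

variable {A : Type u} [CommRing A] {Ω : Type u} [CommRing Ω] [Algebra A Ω]
  (B : Type u) [CommRing B] [Algebra A B]

/-- The transition maps of the base-changed diagram. -/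
noncomputable def tmap {U V : Nbhd A Ω} (f : U ⟶ V) : B ⊗[A] U.Ring →ₐ[B] B ⊗[A] V.Ring :=
  Algebra.TensorProduct.map (AlgHom.id B B) (Nbhd.Hom.toAlgHom f)

theorem tmap_tmul {U V : Nbhd A Ω} (f : U ⟶ V) (b : B) (x : U.Ring) :
    tmap B f (b ⊗ₜ x) = b ⊗ₜ (Nbhd.Hom.toAlgHom f x) := rfl

/-- The map from a base-changed stage to the base-changed colimit. -/
noncomputable def tι (U : Nbhd A Ω) : B ⊗[A] U.Ring →ₐ[B] B ⊗[A] G A Ω :=
  Algebra.TensorProduct.map (AlgHom.id B B) (ιAlg U)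

theorem tι_tmul (U : Nbhd A Ω) (b : B) (x : U.Ring) : tι B U (b ⊗ₜ x) = b ⊗ₜ ι U x := rfl

theorem tι_tmap {U V : Nbhd A Ω} (f : U ⟶ V) (w : B ⊗[A] U.Ring) :
    tι B V (tmap B f w) = tι B U w := by
  induction w using TensorProduct.induction_on with
  | zero => simp
  | tmul b x => rw [tmap_tmul, tι_tmul, tι_tmul, ι_hom]
  | add x y hx hy => rw [map_add, map_add, hx, hy, map_add]

/-- The base-changed diagram. -/
noncomputable def tensorDiagram : Nbhd A Ω ⥤ CommRingCat.{u} where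
  obj U := CommRingCat.of (B ⊗[A] U.Ring)
  map f := CommRingCat.ofHom (tmap B f).toRingHom
  map_id U := by
    refine CommRingCat.hom_ext (RingHom.ext fun w => ?_)
    show tmap B (𝟙 U) w = w
    induction w using TensorProduct.induction_on with
    | zero => simp
    | tmul b x => rfl
    | add x y hx hy => rw [map_add, hx, hy]
  map_comp f g := by
    refine CommRingCat.hom_ext (RingHom.ext fun w => ?_)
    show tmap B (f ≫ g) w = tmap B g (tmap B f w)
    induction w using TensorProduct.induction_on with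
    | zero => simp
    | tmul b x => rfl
    | add x y hx hy => rw [map_add, map_add, map_add, hx, hy]

/-- The colimit of the base-changed diagram. -/
noncomputable def GB : CommRingCat.{u} := colimit (tensorDiagram (A := A) (Ω := Ω) B)

/-- The structure maps of the base-changed colimit. -/
noncomputable def κ (U : Nbhd A Ω) : B ⊗[A] U.Ring →+* (GB (A := A) (Ω := Ω) B : Type u) :=
  (colimit.ι (tensorDiagram (A := A) (Ω := Ω) B) U).hom

theorem κ_tmap {U V : Nbhd A Ω} (f : U ⟶ V) (w : B ⊗[A] U.Ring) :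
    κ B V (tmap B f w) = κ B U w := by
  have := colimit.w (tensorDiagram (A := A) (Ω := Ω) B) f
  exact ConcreteCategory.congr_hom this w

theorem κ_exists_rep (c : (GB (A := A) (Ω := Ω) B : Type u)) :
    ∃ (U : Nbhd A Ω) (w : B ⊗[A] U.Ring), κ B U w = c :=
  Concrete.colimit_exists_rep (tensorDiagram (A := A) (Ω := Ω) B) c

theorem κ_eq_iff {U V : Nbhd A Ω} (w : B ⊗[A] U.Ring) (w' : B ⊗[A] V.Ring) :
    κ B U w = κ B V w' ↔ ∃ (Z : Nbhd A Ω) (f : U ⟶ Z) (g : V ⟶ Z), tmap B f w = tmap B g w' :=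
  Concrete.colimit_rep_eq_iff_exists (tensorDiagram (A := A) (Ω := Ω) B) w w'

/-- The comparison map from the colimit to the tensor product. -/
noncomputable def Θ : (GB (A := A) (Ω := Ω) B : Type u) →+* B ⊗[A] G A Ω :=
  (colimit.desc (tensorDiagram (A := A) (Ω := Ω) B)
    { pt := CommRingCat.of (B ⊗[A] G A Ω)
      ι :=
        { app := fun U => CommRingCat.ofHom (tι B U).toRingHom
          naturality := fun U V f => by
            refine CommRingCat.hom_ext (RingHom.ext fun w => ?_)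
            exact tι_tmap B f w } }).hom

theorem Θ_κ (U : Nbhd A Ω) (w : B ⊗[A] U.Ring) : Θ B (κ B U w) = tι B U w := by
  have := colimit.ι_desc
    ({ pt := CommRingCat.of (B ⊗[A] G A Ω)
       ι :=
        { app := fun U => CommRingCat.ofHom (tι B U).toRingHom
          naturality := fun U V f => by
            refine CommRingCat.hom_ext (RingHom.ext fun w => ?_)
            exact tι_tmap B f w } } : Cocone (tensorDiagram (A := A) (Ω := Ω) B)) U
  exact ConcreteCategory.congr_hom this w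

/-- Elements `b ⊗ 1` have the same image from all stages. -/
theorem κ_tmul_one (U V : Nbhd A Ω) (b : B) :
    κ B U (b ⊗ₜ (1 : U.Ring)) = κ B V (b ⊗ₜ (1 : V.Ring)) := by
  obtain ⟨Z, f, g, -⟩ := Nbhd.exists_cocone_objs U V
  rw [κ_eq_iff]
  refine ⟨Z, f, g, ?_⟩
  rw [tmap_tmul, tmap_tmul, map_one, map_one]

noncomputable instance : Algebra B (GB (A := A) (Ω := Ω) B : Type u) :=
  ((κ B (Nbhd.base A Ω)).comp
    (algebraMap B (B ⊗[A] (Nbhd.base A Ω).Ring))).toAlgebra

theorem algebraMap_GB (U : Nbhd A Ω) (b : B) :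
    algebraMap B (GB (A := A) (Ω := Ω) B : Type u) b = κ B U (b ⊗ₜ (1 : U.Ring)) :=
  κ_tmul_one B (Nbhd.base A Ω) U b

noncomputable instance : Algebra A (GB (A := A) (Ω := Ω) B : Type u) :=
  ((algebraMap B (GB (A := A) (Ω := Ω) B : Type u)).comp (algebraMap A B)).toAlgebra

instance : IsScalarTower A B (GB (A := A) (Ω := Ω) B : Type u) :=
  IsScalarTower.of_algebraMap_eq (fun _ => rfl)

/-- The stage maps `U.Ring → GB`. -/
noncomputable def stageGB (U : Nbhd A Ω) : U.Ring →ₐ[A] (GB (A := A) (Ω := Ω) B : Type u) :=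
  { (κ B U).comp (Algebra.TensorProduct.includeRight : U.Ring →ₐ[A] B ⊗[A] U.Ring).toRingHom with
    commutes' := fun a => by
      show κ B U ((1 : B) ⊗ₜ (algebraMap A U.Ring a)) = algebraMap B _ (algebraMap A B a)
      have h : (1 : B) ⊗ₜ[A] (algebraMap A U.Ring a) = (algebraMap A B a) ⊗ₜ[A] (1 : U.Ring) := by
        rw [Algebra.algebraMap_eq_smul_one, Algebra.algebraMap_eq_smul_one,
          TensorProduct.tmul_smul, TensorProduct.smul_tmul']
      rw [algebraMap_GB B U, h] }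

theorem stageGB_apply (U : Nbhd A Ω) (x : U.Ring) : stageGB B U x = κ B U (1 ⊗ₜ x) := rfl

theorem stageGB_comp {U V : Nbhd A Ω} (f : U ⟶ V) :
    (stageGB B V).comp (Nbhd.Hom.toAlgHom f) = stageGB B U := by
  ext x
  rw [AlgHom.comp_apply, stageGB_apply, stageGB_apply, ← κ_tmap B f, tmap_tmul]

/-- The map `G A Ω → GB`. -/
noncomputable def gGB : G A Ω →ₐ[A] (GB (A := A) (Ω := Ω) B : Type u) :=
  descAlg (stageGB B) (fun f => stageGB_comp B f)

theorem gGB_ι (U : Nbhd A Ω) (x : U.Ring) : gGB B (ι U x) = κ B U (1 ⊗ₜ x) :=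
  descAlg_ι (stageGB B) (fun f => stageGB_comp B f) U x

/-- The inverse comparison map. -/
noncomputable def Ξ : B ⊗[A] G A Ω →ₐ[B] (GB (A := A) (Ω := Ω) B : Type u) :=
  Algebra.TensorProduct.lift (Algebra.ofId B _) (gGB B) (fun _ _ => Commute.all _ _)

theorem Ξ_tmul_ι (U : Nbhd A Ω) (b : B) (x : U.Ring) : Ξ B (b ⊗ₜ ι U x) = κ B U (b ⊗ₜ x) := by
  show Algebra.TensorProduct.lift (Algebra.ofId B _) (gGB B) (fun _ _ => Commute.all _ _)
    (b ⊗ₜ ι U x) = _
  rw [Algebra.TensorProduct.lift_tmul, gGB_ι, Algebra.ofId_apply, algebraMap_GB B U, ← map_mul,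
    Algebra.TensorProduct.tmul_mul_tmul, mul_one, one_mul]

theorem Ξ_tι (U : Nbhd A Ω) (w : B ⊗[A] U.Ring) : Ξ B (tι B U w) = κ B U w := by
  induction w using TensorProduct.induction_on with
  | zero => simp
  | tmul b x => rw [tι_tmul, Ξ_tmul_ι]
  | add x y hx hy => rw [map_add, map_add, map_add, hx, hy]

theorem Ξ_Θ (c : (GB (A := A) (Ω := Ω) B : Type u)) : Ξ B (Θ B c) = c := by
  obtain ⟨U, w, rfl⟩ := κ_exists_rep B c
  rw [Θ_κ, Ξ_tι]

theorem Θ_Ξ (z : B ⊗[A] G A Ω) : Θ B (Ξ B z) = z := by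
  induction z using TensorProduct.induction_on with
  | zero => simp
  | tmul b c =>
    obtain ⟨U, x, rfl⟩ := exists_rep c
    rw [Ξ_tmul_ι, Θ_κ, tι_tmul]
  | add x y hx hy => rw [map_add, map_add, hx, hy]

/-- Every element of the base change comes from a stage. -/
theorem exists_rep_tensor (z : B ⊗[A] G A Ω) :
    ∃ (U : Nbhd A Ω) (w : B ⊗[A] U.Ring), tι B U w = z := by
  obtain ⟨U, w, hw⟩ := κ_exists_rep B (Ξ B z)
  refine ⟨U, w, ?_⟩
  rw [← Θ_κ, hw, Θ_Ξ]

/-- An element of a base-changed stage which dies in the base-changed colimit dies at a later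
stage. -/
theorem exists_tmap_eq_zero {U : Nbhd A Ω} (w : B ⊗[A] U.Ring) (h : tι B U w = 0) :
    ∃ (V : Nbhd A Ω) (f : U ⟶ V), tmap B f w = 0 := by
  have h1 : κ B U w = κ B U 0 := by
    rw [← Ξ_tι, h, map_zero, map_zero]
  obtain ⟨Z, f, g, hfg⟩ := (κ_eq_iff B w 0).mp h1
  exact ⟨Z, f, by rw [hfg, map_zero]⟩

end Groth.Agent.Helper7.SHens
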