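import Mathlib
import Groth.Agent.S0066
import Groth.Agent.Lib.Helper7.SHens.HensModel

/-!
# Normality of (strict) henselizations
-/

open Polynomial

namespace Groth.Agent.Helper7.SHens

universe u

section Crit

variable {D : Type*} [CommRing D] [IsDomain D]

/-- In an integrally closed domain, a root of a homogenised monic equation is divisible. -/
theorem dvd_of_eval_scaleRoots_eq_zero [IsIntegrallyClosed D] (p : D[X]) (hp : p.Monic) (c d : D)
    (hd : d ≠ 0) (h : (p.scaleRoots d).eval c = 0) : d ∣ c := by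
  let L := FractionRing D
  have hd' : algebraMap D L d ≠ 0 := by
    intro h0
    exact hd ((IsFractionRing.injective D L) (h0.trans (map_zero _).symm))
  have h1 := Polynomial.scaleRoots_eval₂_mul (p := p) (algebraMap D L)
    (algebraMap D L c / algebraMap D L d) d
  rw [mul_div_cancel₀ _ hd'] at h1
  have h2 : eval₂ (algebraMap D L) (algebraMap D L c) (scaleRoots p d) = 0 := by
    rw [Polynomial.eval₂_at_apply, h, map_zero]
  rw [h2] at h1
  have h3 : eval₂ (algebraMap D L) (algebraMap D L c / algebraMap D L d) p = 0 := by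
    rcases mul_eq_zero.mp h1.symm with h4 | h4
    · exact absurd (eq_zero_of_pow_eq_zero h4) hd'
    · exact h4
  have hint : IsIntegral D (algebraMap D L c / algebraMap D L d) := ⟨p, hp, h3⟩
  obtain ⟨b, hb⟩ := IsIntegrallyClosed.isIntegral_iff.mp hint
  refine ⟨b, ?_⟩
  apply IsFractionRing.injective D L
  rw [map_mul, hb, mul_div_cancel₀ _ hd']

/-- Criterion for integral closedness in terms of homogenised monic equations. -/
theorem isIntegrallyClosed_of_forall_dvd
    (h : ∀ (p : D[X]), p.Monic → ∀ c d : D, d ≠ 0 → (p.scaleRoots d).eval c = 0 → d ∣ c) :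
    IsIntegrallyClosed D := by
  rw [isIntegrallyClosed_iff (FractionRing D)]
  intro x hx
  obtain ⟨p, hp, hpx⟩ := hx
  obtain ⟨c, d, hd, rfl⟩ := IsFractionRing.div_surjective D x
  have hd0 : d ≠ 0 := nonZeroDivisors.ne_zero hd
  have hd' : algebraMap D (FractionRing D) d ≠ 0 := by
    intro h0
    exact hd0 ((IsFractionRing.injective D (FractionRing D)) (h0.trans (map_zero _).symm))
  have h1 := Polynomial.scaleRoots_eval₂_mul (p := p) (algebraMap D (FractionRing D))
    (algebraMap D (FractionRing D) c / algebraMap D (FractionRing D) d) d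
  rw [mul_div_cancel₀ _ hd', hpx, mul_zero, Polynomial.eval₂_at_apply] at h1
  have h2 : (p.scaleRoots d).eval c = 0 :=
    (IsFractionRing.injective D (FractionRing D)) (h1.trans (map_zero _).symm)
  obtain ⟨b, hb⟩ := h p hp c d hd0 h2
  refine ⟨b, ?_⟩
  rw [hb, map_mul, mul_div_cancel_left₀ _ hd']

end Crit

section Stage

variable {R : Type u} [CommRing R] {K : Type u} [Field K] [Algebra R K]

namespace Nbhd

/-- The kernel of the section of a stage. -/
noncomputable def q (U : Nbhd R K) : Ideal U.Ring := RingHom.ker (U.sec : U.Ring →+* K)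

instance (U : Nbhd R K) : U.q.IsPrime := RingHom.ker_isPrime _

theorem mem_q {U : Nbhd R K} {x : U.Ring} : x ∈ U.q ↔ U.sec x = 0 := Iff.rfl

/-- The local ring of a stage at the kernel of its section. -/
abbrev Loc (U : Nbhd R K) : Type u := Localization.AtPrime U.q

end Nbhd

theorem isUnit_ι_of_not_mem (U : Nbhd R K) (s : U.Ring) (hs : s ∉ U.q) : IsUnit (ι U s) := by
  apply isUnit_of_isUnit_σ
  rw [σ_ι]
  exact isUnit_iff_ne_zero.mpr hs

/-- The map from the local ring of a stage to the colimit. -/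
noncomputable def locMap (U : Nbhd R K) : U.Loc →+* G R K :=
  IsLocalization.lift (M := U.q.primeCompl) (g := ι U) (fun s => isUnit_ι_of_not_mem U s s.2)

theorem locMap_algebraMap (U : Nbhd R K) (x : U.Ring) :
    locMap U (algebraMap U.Ring U.Loc x) = ι U x :=
  IsLocalization.lift_eq _ _

end Stage

section Normal

variable {R : Type u} [CommRing R] [IsLocalRing R] {K : Type u} [Field K] [Algebra R K]

theorem isLocalization_atPrime_maximalIdeal :
    IsLocalization.AtPrime R (IsLocalRing.maximalIdeal R) :=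
  IsLocalization.of_le_isUnit (fun x hx => by
    by_contra h
    exact hx ((IsLocalRing.mem_maximalIdeal x).mpr h))

variable [IsDomain R] [IsIntegrallyClosed R]

theorem normal_loc (U : Nbhd R K) : IsDomain U.Loc ∧ IsIntegrallyClosed U.Loc := by
  have h1 : IsLocalization.AtPrime R (IsLocalRing.maximalIdeal R) :=
    isLocalization_atPrime_maximalIdeal
  have h2 : Module.Flat R U.Loc := Module.Flat.trans R U.Ring U.Loc
  exact Groth.Agent.S0066.normal_of_etale (A₀ := R) (B₀ := U.Ring) (A := R) (B := U.Loc)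
    (IsLocalRing.maximalIdeal R) U.q

theorem isDomain_G : IsDomain (G R K) := by
  have hnt : Nontrivial (G R K) := nontrivial_G R K
  rw [isDomain_iff_noZeroDivisors_and_nontrivial]
  refine ⟨⟨?_⟩, hnt⟩
  intro c d hcd
  obtain ⟨U, x, y, rfl, rfl⟩ := exists_rep₂ c d
  have h1 : ι U (x * y) = ι U 0 := by rw [map_mul, hcd, map_zero]
  obtain ⟨V, f, hf⟩ := exists_hom_eq_of_ι_eq _ _ h1
  rw [map_zero, map_mul] at hf
  obtain ⟨hdom, -⟩ := normal_loc V
  have h2 : algebraMap V.Ring V.Loc ((f : Nbhd.Hom U V).toAlgHom x) *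
      algebraMap V.Ring V.Loc ((f : Nbhd.Hom U V).toAlgHom y) = 0 := by
    rw [← map_mul, hf, map_zero]
  rcases mul_eq_zero.mp h2 with h3 | h3
  · left
    rw [← ι_hom f x, ← locMap_algebraMap, h3, map_zero]
  · right
    rw [← ι_hom f y, ← locMap_algebraMap, h3, map_zero]

omit [IsLocalRing R] [IsDomain R] [IsIntegrallyClosed R] in
/-- A monic polynomial and two elements come from a common stage. -/
theorem exists_rep_monic₂ (p : (G R K)[X]) (hp : p.Monic) (c d : G R K) :
    ∃ (U : Nbhd R K) (P : U.Ring[X]) (x y : U.Ring),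
      P.Monic ∧ P.map (ι U) = p ∧ ι U x = c ∧ ι U y = d := by
  obtain ⟨U, F, α, hF, hFp, hα⟩ := exists_rep_monic p hp c
  obtain ⟨U', y, hy⟩ := exists_rep d
  obtain ⟨Z, f, g, -⟩ := Nbhd.exists_cocone_objs U U'
  refine ⟨Z, F.map ((f : Nbhd.Hom U Z).toAlgHom : U.Ring →+* Z.Ring),
    (f : Nbhd.Hom U Z).toAlgHom α, (g : Nbhd.Hom U' Z).toAlgHom y, hF.map _, ?_, ?_, ?_⟩
  · rw [Polynomial.map_map, ← hFp]
    congr 1
    ext z
    exact ι_hom f z
  · rw [ι_hom, hα]
  · rw [ι_hom, hy]

theorem map_eval_scaleRoots {A B : Type*} [CommRing A] [CommRing B] [Nontrivial B] (φ : A →+* B)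
    (P : A[X]) (hP : P.Monic) (a b : A) :
    φ ((P.scaleRoots b).eval a) = ((P.map φ).scaleRoots (φ b)).eval (φ a) := by
  rw [← Polynomial.map_scaleRoots _ _ _ (by rw [hP.leadingCoeff, map_one]; exact one_ne_zero),
    Polynomial.eval_map, Polynomial.eval₂_at_apply]

theorem normal_G : IsDomain (G R K) ∧ IsIntegrallyClosed (G R K) := by
  have hdom : IsDomain (G R K) := isDomain_G
  refine ⟨hdom, isIntegrallyClosed_of_forall_dvd ?_⟩
  intro p hp c d hd h
  obtain ⟨U, P, x, y, hP, rfl, rfl, rfl⟩ := exists_rep_monic₂ p hp c d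
  have h1 : ι U ((P.scaleRoots y).eval x) = ι U 0 := by
    rw [map_eval_scaleRoots (ι U) P hP, h, map_zero]
  obtain ⟨V, f, hf⟩ := exists_hom_eq_of_ι_eq _ _ h1
  obtain ⟨hVdom, hVnorm⟩ := normal_loc V
  let φ : U.Ring →+* V.Loc :=
    (algebraMap V.Ring V.Loc).comp ((f : Nbhd.Hom U V).toAlgHom : U.Ring →+* V.Ring)
  have hφ : ∀ z, locMap V (φ z) = ι U z := by
    intro z
    show locMap V (algebraMap V.Ring V.Loc ((f : Nbhd.Hom U V).toAlgHom z)) = _
    rw [locMap_algebraMap, ι_hom]
  have h2 : ((P.map φ).scaleRoots (φ y)).eval (φ x) = 0 := by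
    rw [← map_eval_scaleRoots φ P hP]
    show algebraMap V.Ring V.Loc ((f : Nbhd.Hom U V).toAlgHom ((P.scaleRoots y).eval x)) = 0
    rw [hf, map_zero, map_zero]
  have hy0 : φ y ≠ 0 := by
    intro h0
    apply hd
    rw [← hφ y, h0, map_zero]
  obtain ⟨b, hb⟩ := dvd_of_eval_scaleRoots_eq_zero (P.map φ) (hP.map φ) (φ x) (φ y) hy0 h2
  refine ⟨locMap V b, ?_⟩
  rw [← hφ x, hb, map_mul, hφ]

end Normal

end Groth.Agent.Helper7.SHens

namespace Groth.Agent.Helper7.SHens

universe u

theorem normal_iff_of_isStrictHenselization (R : Type u) [CommRing R] [IsLocalRing R]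
    (S : Type u) [CommRing S] [IsLocalRing S] [Algebra R S] [IsLocalHom (algebraMap R S)]
    [Hensel.IsStrictHenselization R S] :
    (IsDomain S ∧ IsIntegrallyClosed S) ↔ (IsDomain R ∧ IsIntegrallyClosed R) := by
  constructor
  · rintro ⟨h1, h2⟩
    have := faithfullyFlat_of_isStrictHenselization R S
    exact Groth.Agent.S0066.descend_normal (A := R) (B := S)
  · rintro ⟨h1, h2⟩
    obtain ⟨e, -⟩ := exists_algEquiv_Model R S
    obtain ⟨h3, h4⟩ := normal_G (R := R) (K := IsLocalRing.ResidueField S)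
    have hd : IsDomain S := e.toRingEquiv.toMulEquiv.isDomain
    exact ⟨hd, IsIntegrallyClosed.of_equiv e.symm.toRingEquiv⟩

theorem normal_iff_of_isHenselization (R : Type u) [CommRing R] [IsLocalRing R]
    (S : Type u) [CommRing S] [IsLocalRing S] [Algebra R S] [IsLocalHom (algebraMap R S)]
    [Hensel.IsHenselization R S] :
    (IsDomain R ∧ IsIntegrallyClosed R) ↔ (IsDomain S ∧ IsIntegrallyClosed S) := by
  constructor
  · rintro ⟨h1, h2⟩
    obtain ⟨e⟩ := nonempty_algEquiv_HModel R S
    obtain ⟨h3, h4⟩ := normal_G (R := R) (K := IsLocalRing.ResidueField R)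
    have hd : IsDomain S := e.toRingEquiv.toMulEquiv.isDomain
    exact ⟨hd, IsIntegrallyClosed.of_equiv e.symm.toRingEquiv⟩
  · rintro ⟨h1, h2⟩
    have : Module.Flat R S := Hens.flat_of_isHenselization R S
    have hff : Module.FaithfullyFlat R S := Module.FaithfullyFlat.of_flat_of_isLocalHom
    exact Groth.Agent.S0066.descend_normal (A := R) (B := S)

end Groth.Agent.Helper7.SHens
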