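import Mathlib
import Groth.Agent.Lib.Helper7.SHens.Abstract
import Groth.Agent.Lib.Helper7.Hens.Abstract2
import Groth.Agent.Lib.Helper7.CAlg.ReducedSmooth

/-!
# The nilradical of a (strict) henselization
-/

open TensorProduct

namespace Groth.Agent.Helper7.SHens

universe u

/-- The nilradical of a smooth algebra is generated by the nilradical of the base. -/
theorem nilradical_eq_map_of_smooth (R : Type*) [CommRing R] (E : Type*) [CommRing E]
    [Algebra R E] [Algebra.Smooth R E] :
    nilradical E = (nilradical R).map (algebraMap R E) := by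
  apply le_antisymm
  · intro x hx
    have h1 : Algebra.Smooth (R ⧸ nilradical R) (E ⧸ (nilradical R).map (algebraMap R E)) :=
      Algebra.Smooth.of_equiv
        (Algebra.TensorProduct.quotIdealMapEquivQuotTensor E (nilradical R)).symm
    have h2 : IsReduced (R ⧸ nilradical R) := by
      have : (nilradical R).IsRadical := Ideal.radical_isRadical _
      exact (Ideal.isRadical_iff_quotient_reduced _).mp this
    have h3 : IsReduced (E ⧸ (nilradical R).map (algebraMap R E)) :=
      Groth.Agent.Helper7.isReduced_of_smooth (R ⧸ nilradical R) _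
    have h4 : IsNilpotent (Ideal.Quotient.mk ((nilradical R).map (algebraMap R E)) x) :=
      (mem_nilradical.mp hx).map _
    exact Ideal.Quotient.eq_zero_iff_mem.mp (IsReduced.eq_zero _ h4)
  · rw [Ideal.map_le_iff_le_comap]
    intro r hr
    exact mem_nilradical.mpr ((mem_nilradical.mp hr).map _)

theorem nilradical_G {A : Type u} [CommRing A] {Ω : Type u} [CommRing Ω] [Algebra A Ω] :
    (nilradical A).map (algebraMap A (G A Ω)) = nilradical (G A Ω) := by
  apply le_antisymm
  · rw [Ideal.map_le_iff_le_comap]
    intro r hr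
    exact mem_nilradical.mpr ((mem_nilradical.mp hr).map _)
  · intro c hc
    obtain ⟨n, hn⟩ := mem_nilradical.mp hc
    obtain ⟨U, x, rfl⟩ := exists_rep c
    have h1 : ι U (x ^ n) = ι U 0 := by rw [map_pow, hn, map_zero]
    obtain ⟨V, f, hf⟩ := exists_hom_eq_of_ι_eq _ _ h1
    rw [map_zero, map_pow] at hf
    have h2 : (f : Nbhd.Hom U V).toAlgHom x ∈ nilradical V.Ring := mem_nilradical.mpr ⟨n, hf⟩
    rw [nilradical_eq_map_of_smooth A V.Ring] at h2
    have h3 : ι V ((f : Nbhd.Hom U V).toAlgHom x) ∈
        ((nilradical A).map (algebraMap A V.Ring)).map (ι V) := Ideal.mem_map_of_mem _ h2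
    rw [Ideal.map_map] at h3
    have h4 : (ι V).comp (algebraMap A V.Ring) = algebraMap A (G A Ω) := by
      ext r
      exact ι_algebraMap V r
    rw [h4, ι_hom] at h3
    exact h3

theorem nilradical_of_isStrictHenselization (R : Type u) [CommRing R] [IsLocalRing R]
    (S : Type u) [CommRing S] [IsLocalRing S] [Algebra R S] [IsLocalHom (algebraMap R S)]
    [Hensel.IsStrictHenselization R S] :
    (nilradical R).map (algebraMap R S) = nilradical S := by
  obtain ⟨e, -⟩ := exists_algEquiv_Model R S
  ext s
  rw [← Hens.mem_map_algEquiv_iff e, nilradical_G, mem_nilradical, mem_nilradical]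
  exact ⟨fun h => (IsNilpotent.map_iff e.injective).mp h, fun h => h.map e⟩

end Groth.Agent.Helper7.SHens

namespace Groth.Agent.Helper7.Hens

universe u

theorem nilradical_H {A : Type u} [CommRing A] {I : Ideal A} :
    (nilradical A).map (algebraMap A (H A I)) = nilradical (H A I) := by
  apply le_antisymm
  · rw [Ideal.map_le_iff_le_comap]
    intro r hr
    exact mem_nilradical.mpr ((mem_nilradical.mp hr).map _)
  · intro c hc
    obtain ⟨n, hn⟩ := mem_nilradical.mp hc
    obtain ⟨U, x, rfl⟩ := exists_rep c
    have h1 : ι U (x ^ n) = ι U 0 := by rw [map_pow, hn, map_zero]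
    obtain ⟨V, f, hf⟩ := exists_hom_eq_of_ι_eq _ _ h1
    rw [map_zero, map_pow] at hf
    have h2 : (f : Nbhd.Hom U V).toAlgHom x ∈ nilradical V.Ring := mem_nilradical.mpr ⟨n, hf⟩
    rw [SHens.nilradical_eq_map_of_smooth A V.Ring] at h2
    have h3 : ι V ((f : Nbhd.Hom U V).toAlgHom x) ∈
        ((nilradical A).map (algebraMap A V.Ring)).map (ι V) := Ideal.mem_map_of_mem _ h2
    rw [Ideal.map_map] at h3
    have h4 : (ι V).comp (algebraMap A V.Ring) = algebraMap A (H A I) := by
      ext r
      exact ι_algebraMap V r
    rw [h4, ι_hom] at h3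
    exact h3

theorem nilradical_of_isPairHenselization {A : Type u} [CommRing A] {I : Ideal A} {B : Type u}
    [CommRing B] [Algebra A B] (hB : Hens2.IsPairHenselization A I B) :
    (nilradical A).map (algebraMap A B) = nilradical B := by
  obtain ⟨e⟩ := nonempty_algEquiv_H hB
  ext s
  rw [← mem_map_algEquiv_iff e, nilradical_H, mem_nilradical, mem_nilradical]
  exact ⟨fun h => (IsNilpotent.map_iff e.injective).mp h, fun h => h.map e⟩

theorem nilradical_of_isHenselization (R : Type u) [CommRing R] [IsLocalRing R]
    (S : Type u) [CommRing S] [IsLocalRing S] [Algebra R S] [IsLocalHom (algebraMap R S)]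
    [Hensel.IsHenselization R S] :
    (nilradical R).map (algebraMap R S) = nilradical S :=
  nilradical_of_isPairHenselization (isPairHenselization_of_isHenselization R S)

end Groth.Agent.Helper7.Hens
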