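import Mathlib
import Groth.Agent.Lib.Helper7.SHens.Regular
import Groth.Agent.Lib.Helper7.SHens.Normal

/-!
# Discrete valuation rings and (strict) henselizations
-/

open IsLocalRing

namespace Groth.Agent.Helper7.SHens

universe u

theorem spanFinrank_maximalIdeal_eq_of_faithfullyFlat (R S : Type*) [CommRing R] [CommRing S]
    [IsLocalRing R] [IsLocalRing S] [IsNoetherianRing R] [IsNoetherianRing S] [Algebra R S]
    [Module.FaithfullyFlat R S]
    (hm : (maximalIdeal R).map (algebraMap R S) = maximalIdeal S) :
    (maximalIdeal S).spanFinrank = (maximalIdeal R).spanFinrank := by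
  apply le_antisymm
  · rw [← hm]
    exact Ideal.spanFinrank_map_le_of_fg _ (IsNoetherian.noetherian _)
  · exact spanFinrank_maximalIdeal_le_of_faithfullyFlat hm

theorem isDiscreteValuationRing_iff_of_faithfullyFlat (R S : Type*) [CommRing R] [CommRing S]
    [IsLocalRing R] [IsLocalRing S] [IsNoetherianRing R] [IsNoetherianRing S] [IsDomain R]
    [IsDomain S] [Algebra R S] [Module.FaithfullyFlat R S]
    (hm : (maximalIdeal R).map (algebraMap R S) = maximalIdeal S) :
    IsDiscreteValuationRing R ↔ IsDiscreteValuationRing S := by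
  rw [← IsLocalRing.finrank_CotangentSpace_eq_one_iff, ← IsLocalRing.finrank_CotangentSpace_eq_one_iff,
    ← spanFinrank_maximalIdeal_eq_finrank_cotangentSpace,
    ← spanFinrank_maximalIdeal_eq_finrank_cotangentSpace,
    spanFinrank_maximalIdeal_eq_of_faithfullyFlat R S hm]

theorem dvr_iff_of_isStrictHenselization (R S : Type u) [CommRing R] [IsLocalRing R]
    [IsNoetherianRing R] [CommRing S] [IsLocalRing S] [Algebra R S]
    [IsLocalHom (algebraMap R S)] [Hensel.IsStrictHenselization R S] :
    (∃ _ : IsDomain R, IsDiscreteValuationRing R) ↔ (∃ _ : IsDomain S, IsDiscreteValuationRing S) := by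
  have hff := faithfullyFlat_of_isStrictHenselization R S
  have hN : IsNoetherianRing S := (isNoetherianRing_iff_of_isStrictHenselization R S).mp inferInstance
  have hm := map_maximalIdeal_of_isStrictHenselization R S
  constructor
  · rintro ⟨hd, hdvr⟩
    have hnorm : IsIntegrallyClosed R := inferInstance
    obtain ⟨hdS, -⟩ := (normal_iff_of_isStrictHenselization R S).mpr ⟨hd, hnorm⟩
    exact ⟨hdS, (isDiscreteValuationRing_iff_of_faithfullyFlat R S hm).mp hdvr⟩
  · rintro ⟨hd, hdvr⟩
    have hdR : IsDomain R :=
      (FaithfulSMul.algebraMap_injective R S).isDomain (algebraMap R S)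
    exact ⟨hdR, (isDiscreteValuationRing_iff_of_faithfullyFlat R S hm).mpr hdvr⟩

theorem dvr_iff_of_isHenselization (R S : Type u) [CommRing R] [IsLocalRing R]
    [IsNoetherianRing R] [CommRing S] [IsLocalRing S] [Algebra R S]
    [IsLocalHom (algebraMap R S)] [Hensel.IsHenselization R S] :
    (∃ _ : IsDomain R, IsDiscreteValuationRing R) ↔ (∃ _ : IsDomain S, IsDiscreteValuationRing S) := by
  have : Module.Flat R S := Hens.flat_of_isHenselization R S
  have hff : Module.FaithfullyFlat R S := Module.FaithfullyFlat.of_flat_of_isLocalHom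
  have hN : IsNoetherianRing S := (isNoetherianRing_iff_of_isHenselization R S).mp inferInstance
  have hm := Hens.map_maximalIdeal_of_isHenselization R S
  constructor
  · rintro ⟨hd, hdvr⟩
    have hnorm : IsIntegrallyClosed R := inferInstance
    obtain ⟨hdS, -⟩ := (normal_iff_of_isHenselization R S).mp ⟨hd, hnorm⟩
    exact ⟨hdS, (isDiscreteValuationRing_iff_of_faithfullyFlat R S hm).mp hdvr⟩
  · rintro ⟨hd, hdvr⟩
    have hdR : IsDomain R :=
      (FaithfulSMul.algebraMap_injective R S).isDomain (algebraMap R S)
    exact ⟨hdR, (isDiscreteValuationRing_iff_of_faithfullyFlat R S hm).mpr hdvr⟩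

end Groth.Agent.Helper7.SHens
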