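import Mathlib
import Groth.Prelude.Def_PBC
import Groth.Agent.Lib.Helper7.SHens.Abstract

/-!
# Strict henselizations are ind-étale
-/

open CategoryTheory CategoryTheory.Limits

namespace Groth.Agent.Helper7.SHens

universe u

variable {A : Type u} [CommRing A] {Ω : Type u} [CommRing Ω] [Algebra A Ω]

/-- The diagram of stages in the category of rings under `A`. -/
noncomputable def underDiagram (A : Type u) [CommRing A] (Ω : Type u) [CommRing Ω] [Algebra A Ω] :
    Nbhd A Ω ⥤ Under (CommRingCat.of A) where
  obj U := Under.mk (CommRingCat.ofHom (algebraMap A U.Ring))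
  map {U V} f := Under.homMk (CommRingCat.ofHom (Nbhd.Hom.toAlgHom f).toRingHom) (by
    ext a
    exact (Nbhd.Hom.toAlgHom f).commutes a)
  map_id U := by
    ext x
    rfl
  map_comp f g := by
    ext x
    rfl

/-- The cocone with vertex an algebra `B` isomorphic to `G A Ω`. -/
noncomputable def underCocone {B : Type u} [CommRing B] [Algebra A B] (e : B ≃ₐ[A] G A Ω) :
    Cocone (underDiagram A Ω) where
  pt := Under.mk (CommRingCat.ofHom (algebraMap A B))
  ι :=
    { app := fun U => Under.homMk
        (CommRingCat.ofHom (e.symm.toAlgHom.comp (ιAlg U)).toRingHom) (by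
          ext a
          exact (e.symm.toAlgHom.comp (ιAlg U)).commutes a)
      naturality := fun U V f => by
        ext x
        exact congrArg e.symm (ι_hom f (x : U.Ring)) }

/-- The underlying cocone of rings is a colimit cocone. -/
noncomputable def underCoconeForgetIsColimit {B : Type u} [CommRing B] [Algebra A B]
    (e : B ≃ₐ[A] G A Ω) :
    IsColimit ((Under.forget (CommRingCat.of A)).mapCocone (underCocone e)) := by
  refine IsColimit.ofIsoColimit
    (colimit.isColimit (Nbhd.toRing (A := A) (Ω := Ω))) (Cocone.ext ?_ ?_)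
  · exact (e.symm.toRingEquiv.toCommRingCatIso)
  · intro U
    ext x
    rfl

attribute [local instance] IsFiltered.isConnected in
noncomputable def underCoconeIsColimit {B : Type u} [CommRing B] [Algebra A B]
    (e : B ≃ₐ[A] G A Ω) : IsColimit (underCocone e) :=
  isColimitOfReflects (Under.forget (CommRingCat.of A)) (underCoconeForgetIsColimit e)

theorem isIndEtale_of_algEquiv {B : Type u} [CommRing B] [Algebra A B] (e : B ≃ₐ[A] G A Ω) :
    EtPBC.IsIndEtale A B := by
  refine ⟨Nbhd A Ω, inferInstance, inferInstance, underDiagram A Ω, underCocone e,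
    underCoconeIsColimit e, ?_, ⟨Iso.refl _⟩⟩
  intro U
  have h : (algebraMap A U.Ring).toAlgebra = (inferInstance : Algebra A U.Ring) :=
    Algebra.algebra_ext _ _ (fun r => rfl)
  show @Algebra.Etale A U.Ring _ _ (algebraMap A U.Ring).toAlgebra
  rw [h]
  infer_instance

theorem isIndEtale_of_isStrictHenselization (R : Type u) [CommRing R] [IsLocalRing R]
    (S : Type u) [CommRing S] [IsLocalRing S] [Algebra R S] [IsLocalHom (algebraMap R S)]
    [Hensel.IsStrictHenselization R S] : EtPBC.IsIndEtale R S := by
  obtain ⟨e, -⟩ := exists_algEquiv_Model R S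
  exact isIndEtale_of_algEquiv e

end Groth.Agent.Helper7.SHens
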