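import Mathlib
import Groth.Agent.Lib.Helper7.SHens.BaseChange
import Groth.Agent.Lib.Helper7.SHens.Abstract
import Groth.Agent.Lib.Helper7.CAlg.ReducedSmooth

/-!
# Reducedness of base changes of `G A Ω`
-/

open TensorProduct

namespace Groth.Agent.Helper7.SHens

universe u

variable {A : Type u} [CommRing A] {Ω : Type u} [CommRing Ω] [Algebra A Ω]
  (B : Type u) [CommRing B] [Algebra A B]

theorem isReduced_tensor_G [IsReduced B] : IsReduced (B ⊗[A] G A Ω) := by
  constructor
  intro z hz
  obtain ⟨n, hn⟩ := hz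
  obtain ⟨U, w, rfl⟩ := exists_rep_tensor B z
  rw [← map_pow] at hn
  obtain ⟨V, f, hf⟩ := exists_tmap_eq_zero B (w ^ n) hn
  rw [map_pow] at hf
  have hred : IsReduced (B ⊗[A] V.Ring) := Groth.Agent.Helper7.isReduced_of_smooth B _
  have h2 : tmap B f w = 0 := IsReduced.eq_zero _ ⟨n, hf⟩
  rw [← tι_tmap B f w, h2, map_zero]

/-- Base change of a reduced algebra along a strict henselization is reduced. -/
theorem isReduced_tensor_of_isStrictHenselization (R : Type u) [CommRing R] [IsLocalRing R]
    (S : Type u) [CommRing S] [IsLocalRing S] [Algebra R S] [IsLocalHom (algebraMap R S)]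
    [Hensel.IsStrictHenselization R S] (B : Type u) [CommRing B] [Algebra R B] [IsReduced B] :
    IsReduced (B ⊗[R] S) := by
  obtain ⟨e, -⟩ := exists_algEquiv_Model R S
  have := isReduced_tensor_G (A := R) (Ω := IsLocalRing.ResidueField S) B
  let E : B ⊗[R] S ≃ₐ[R] B ⊗[R] Model R S := Algebra.TensorProduct.congr AlgEquiv.refl e
  exact isReduced_of_injective E.toAlgHom E.injective

end Groth.Agent.Helper7.SHens
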