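import Mathlib
import Groth.Agent.Lib.Helper7.SHens.Dim

/-!
# Primes of a strict henselization and their contractions
-/

namespace Groth.Agent.Helper7.SHens

universe u

/-- Incomparability of primes in a strict henselization. -/
theorem eq_of_le_of_under_eq_of_isStrictHenselization (R : Type u) [CommRing R] [IsLocalRing R]
    (S : Type u) [CommRing S] [IsLocalRing S] [Algebra R S] [IsLocalHom (algebraMap R S)]
    [Hensel.IsStrictHenselization R S] (P Q : Ideal S) [P.IsPrime] [Q.IsPrime] (h₁ : P ≤ Q)
    (h₂ : P.under R = Q.under R) : P = Q := by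
  obtain ⟨e, -⟩ := exists_algEquiv_Model R S
  apply eq_of_le_of_under_eq_of_forall_exists_quasiFinite.{_, _, u} (A := R) (B := S) _ P Q h₁ h₂
  intro b
  obtain ⟨U, x, hx⟩ := exists_rep (e b)
  refine ⟨U.Ring, inferInstance, inferInstance, inferInstance,
    e.symm.toAlgHom.comp (ιAlg U), x, ?_⟩
  show e.symm (ι U x) = b
  rw [hx, AlgEquiv.symm_apply_apply]

/-- A prime of a flat algebra with incomparability is minimal over the extension of its
contraction. -/
theorem mem_minimalPrimes_map_under {R S : Type*} [CommRing R] [CommRing S] [Algebra R S]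
    (hinc : ∀ (P Q : Ideal S) [P.IsPrime] [Q.IsPrime], P ≤ Q → P.under R = Q.under R → P = Q)
    (P : Ideal S) [P.IsPrime] :
    P ∈ ((P.under R).map (algebraMap R S)).minimalPrimes := by
  refine ⟨⟨inferInstance, Ideal.map_comap_le⟩, ?_⟩
  rintro Q ⟨hQ, hQle⟩ hQP
  have h1 : Q.under R = P.under R := by
    apply le_antisymm (Ideal.comap_mono hQP)
    rw [← Ideal.map_le_iff_le_comap]
    exact hQle
  exact (hinc Q P hQP h1).ge

/-- A minimal prime over the extension of a prime along a going-down algebra contracts to it. -/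
theorem under_eq_of_mem_minimalPrimes_map {R S : Type*} [CommRing R] [CommRing S] [Algebra R S]
    [Algebra.HasGoingDown R S] (p : Ideal R) [p.IsPrime] (P : Ideal S)
    (hP : P ∈ (p.map (algebraMap R S)).minimalPrimes) : P.under R = p := by
  have hPprime : P.IsPrime := hP.1.1
  have hle : p ≤ P.under R := by
    rw [← Ideal.map_le_iff_le_comap]
    exact hP.1.2
  by_contra hne
  have hlt : p < P.under R := lt_of_le_of_ne hle (Ne.symm hne)
  obtain ⟨Q, hQP, hQ, hQlo⟩ := Algebra.HasGoingDown.exists_ideal_le_liesOver_of_lt (p := p) P hlt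
  have h1 : p.map (algebraMap R S) ≤ Q := by
    rw [Ideal.map_le_iff_le_comap]
    exact hQlo.over.le
  have h2 : P ≤ Q := hP.2 ⟨hQ, h1⟩ hQP
  have h3 : Q = P := le_antisymm hQP h2
  apply hne
  rw [← h3]
  exact hQlo.over.symm

end Groth.Agent.Helper7.SHens
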