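import Mathlib
import Groth.Agent.Lib.Helper8.Depth36

/-!
# Depth along a flat local homomorphism with trivial closed fibre

If `R → S` is a flat local homomorphism of noetherian local rings with `𝔪_R S = 𝔪_S`,
then `depth S = depth R`.
-/

set_option autoImplicit false

namespace Groth.Agent.Helper7.SHens

universe u

open RingTheory.Sequence LocCoh Pointwise IsLocalRing Groth.Agent.Helper8.Depth

theorem depth_eq_of_flat_of_map_maximalIdeal (R S : Type u) [CommRing R] [CommRing S]
    [IsLocalRing R] [IsNoetherianRing R] [IsLocalRing S] [IsNoetherianRing S] [Algebra R S]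
    [IsLocalHom (algebraMap R S)] [Module.Flat R S]
    (hm : (maximalIdeal R).map (algebraMap R S) = maximalIdeal S) :
    depth S S = depth R R := by
  have hff : Module.FaithfullyFlat R S := Module.FaithfullyFlat.of_flat_of_isLocalHom
  have htopR : maximalIdeal R • (⊤ : Submodule R R) ≠ ⊤ := smul_top_ne_top_of_local R R
  have htopS : maximalIdeal S • (⊤ : Submodule S S) ≠ ⊤ := smul_top_ne_top_of_local S S
  obtain ⟨rs, hreg, hmem, hmax, hlen⟩ := exists_maximal_isWeaklyRegular htopR
  have hreg' : IsWeaklyRegular S (rs.map (algebraMap R S)) := hreg.of_flat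
  have hmem' : ∀ r ∈ rs.map (algebraMap R S), r ∈ maximalIdeal S := by
    intro r hr
    obtain ⟨r0, hr0, rfl⟩ := List.mem_map.mp hr
    rw [← hm]
    exact Ideal.mem_map_of_mem _ (hmem r0 hr0)
  -- the maximal ideal of `R` is associated to `R / (rs)`
  have hass : maximalIdeal R ∈
      associatedPrimes R (R ⧸ (Ideal.ofList rs • (⊤ : Submodule R R))) := by
    rw [← forall_not_isSMulRegular_iff]
    intro x hx hxreg
    apply hmax x hx
    rw [isWeaklyRegular_append_iff]
    exact ⟨hreg, (isWeaklyRegular_singleton_iff _ x).mpr hxreg⟩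
  obtain ⟨-, y, hy⟩ := isAssociatedPrime_iff.mp hass
  obtain ⟨a, rfl⟩ := Submodule.Quotient.mk_surjective _ y
  have ha : a ∉ Ideal.ofList rs := by
    intro ha
    have h0 : (Submodule.Quotient.mk a : R ⧸ (Ideal.ofList rs • (⊤ : Submodule R R))) = 0 := by
      rw [Submodule.Quotient.mk_eq_zero]
      simpa using ha
    have h1 : (1 : R) ∈ maximalIdeal R := by
      rw [hy, Submodule.mem_colon_singleton, h0, smul_zero]
      exact Submodule.zero_mem _
    exact (maximalIdeal.isMaximal R).ne_top ((Ideal.eq_top_iff_one _).mpr h1)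
  have hma : ∀ r ∈ maximalIdeal R, r * a ∈ Ideal.ofList rs := by
    intro r hr
    rw [hy, Submodule.mem_colon_singleton] at hr
    have h1 : (Submodule.Quotient.mk (r • a) : R ⧸ (Ideal.ofList rs • (⊤ : Submodule R R))) = 0 := by
      rw [Submodule.Quotient.mk_smul]
      simpa using hr
    rw [Submodule.Quotient.mk_eq_zero] at h1
    simpa using h1
  -- transport to `S`
  have hb : algebraMap R S a ∉ Ideal.ofList (rs.map (algebraMap R S)) := by
    intro hb
    apply ha
    rw [← Ideal.map_ofList] at hb
    have := Ideal.mem_comap.mpr hb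
    rwa [Ideal.comap_map_eq_self_of_faithfullyFlat] at this
  have hmb : ∀ r ∈ maximalIdeal S, r * algebraMap R S a ∈ Ideal.ofList (rs.map (algebraMap R S)) := by
    intro r hr
    rw [← hm] at hr
    rw [← Ideal.map_ofList]
    have h1 : r * algebraMap R S a ∈ (maximalIdeal R * Ideal.span {a}).map (algebraMap R S) := by
      rw [Ideal.map_mul]
      exact Ideal.mul_mem_mul hr (Ideal.mem_map_of_mem _ (Ideal.mem_span_singleton_self a))
    refine Ideal.map_mono ?_ h1
    rw [Ideal.mul_le]
    intro r hr s hs
    obtain ⟨c, rfl⟩ := Ideal.mem_span_singleton'.mp hs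
    have := Ideal.mul_mem_left _ c (hma r hr)
    convert this using 1
    ring
  have hmax' : ∀ r ∈ maximalIdeal S, ¬ IsWeaklyRegular S (rs.map (algebraMap R S) ++ [r]) := by
    intro r hr hwr
    rw [isWeaklyRegular_append_iff, isWeaklyRegular_singleton_iff] at hwr
    have hsr := hwr.2
    have h1 : r • (Submodule.Quotient.mk (algebraMap R S a) :
        S ⧸ (Ideal.ofList (rs.map (algebraMap R S)) • (⊤ : Submodule S S))) = r • 0 := by
      rw [smul_zero, ← Submodule.Quotient.mk_smul, Submodule.Quotient.mk_eq_zero]
      simpa using hmb r hr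
    have h2 := hsr h1
    rw [Submodule.Quotient.mk_eq_zero] at h2
    apply hb
    simpa using h2
  have h3 := length_eq_idealDepth_of_maximal htopS _ hreg' hmem' hmax'
  rw [List.length_map] at h3
  unfold depth
  rw [← h3, ← hlen]

end Groth.Agent.Helper7.SHens
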