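import Mathlib
import Groth.Agent.Lib.Helper7.SHens.DepthFlat2
import Groth.Agent.Lib.Helper7.SHens.Serre
import Groth.Agent.Lib.Helper7.SHens.NoethCrit

/-!
# Serre's condition `(S_k)` descends along faithfully flat ring maps
-/

set_option autoImplicit false

namespace Groth.Agent.Helper7.SHens

universe u

open IsLocalRing LocCoh Groth.Agent.Helper8.Depth

section

variable {R S : Type u} [CommRing R] [CommRing S] [Algebra R S]

/-- Over a prime `p` of `R` there is a prime of a faithfully flat algebra which is minimal over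
`pS` and contracts to `p`. -/
theorem exists_minimalPrimes_liesOver [Module.FaithfullyFlat R S] (p : Ideal R) [p.IsPrime] :
    ∃ P ∈ (p.map (algebraMap R S)).minimalPrimes, P.under R = p := by
  obtain ⟨Q, hQ, hQp⟩ := exists_prime_liesOver (S := S) p
  have hle : p.map (algebraMap R S) ≤ Q := by
    rw [Ideal.map_le_iff_le_comap]
    exact hQp.over.le
  obtain ⟨P, hP, hPQ⟩ := Ideal.exists_minimalPrimes_le hle
  refine ⟨P, hP, le_antisymm ?_ ?_⟩
  · calc P.under R ≤ Q.under R := Ideal.comap_mono hPQ
      _ = p := hQp.over.symm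
  · rw [← Ideal.map_le_iff_le_comap]
    exact hP.1.2

theorem height_eq_of_mem_minimalPrimes [IsNoetherianRing R] [IsNoetherianRing S]
    [Algebra.HasGoingDown R S] (p : Ideal R) [p.IsPrime] (P : Ideal S) [P.IsPrime] [P.LiesOver p]
    (hmin : P ∈ (p.map (algebraMap R S)).minimalPrimes) : P.height = p.height := by
  rw [Ideal.height_eq_height_add_of_liesOver_of_hasGoingDown p P]
  rw [Ideal.minimalPrimes_eq_comap] at hmin
  obtain ⟨q, hq, hqP⟩ := hmin
  have hqp : q.IsPrime := hq.1.1
  have h1 : P.map (Ideal.Quotient.mk (p.map (algebraMap R S))) = q := by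
    rw [← hqP, Ideal.map_comap_of_surjective _ Ideal.Quotient.mk_surjective]
  rw [h1, Ideal.height_eq_zero_iff.mpr hq, add_zero]

theorem exists_pow_maximalIdeal_le_of_mem_minimalPrimes [IsNoetherianRing S]
    (p : Ideal R) [p.IsPrime] (P : Ideal S) [P.IsPrime] [P.LiesOver p]
    (hmin : P ∈ (p.map (algebraMap R S)).minimalPrimes)
    [Algebra (Localization.AtPrime p) (Localization.AtPrime P)]
    [Localization.AtPrime.IsLiesOverAlgebra p P] :
    ∃ n : ℕ, maximalIdeal (Localization.AtPrime P) ^ n ≤
      (maximalIdeal (Localization.AtPrime p)).map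
        (algebraMap (Localization.AtPrime p) (Localization.AtPrime P)) := by
  have h1 : (maximalIdeal (Localization.AtPrime p)).map
        (algebraMap (Localization.AtPrime p) (Localization.AtPrime P)) =
      (p.map (algebraMap R S)).map (algebraMap S (Localization.AtPrime P)) := by
    rw [← Localization.AtPrime.map_eq_maximalIdeal, Ideal.map_map,
      ← IsScalarTower.algebraMap_eq R (Localization.AtPrime p) (Localization.AtPrime P),
      IsScalarTower.algebraMap_eq R S (Localization.AtPrime P), ← Ideal.map_map]
  rw [h1]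
  have h2 := IsLocalization.AtPrime.radical_map_of_mem_minimalPrimes (Localization.AtPrime P) P
    (p.map (algebraMap R S)) hmin
  rw [Localization.AtPrime.map_eq_maximalIdeal] at h2
  rw [← h2]
  exact Ideal.exists_radical_pow_le_of_fg _ (IsNoetherian.noetherian _)

theorem depth_localization_eq_of_mem_minimalPrimes [IsNoetherianRing R] [IsNoetherianRing S]
    [Module.Flat R S] (p : Ideal R) [p.IsPrime] (P : Ideal S) [P.IsPrime] [P.LiesOver p]
    (hmin : P ∈ (p.map (algebraMap R S)).minimalPrimes) :
    depth (Localization.AtPrime P) (Localization.AtPrime P) =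
      depth (Localization.AtPrime p) (Localization.AtPrime p) := by
  let _ : Algebra (Localization.AtPrime p) (Localization.AtPrime P) :=
    Localization.AtPrime.algebraOfLiesOver p P
  have hloc : IsLocalHom (algebraMap (Localization.AtPrime p) (Localization.AtPrime P)) :=
    Localization.isLocalHom_localRingHom p P (algebraMap R S) Ideal.LiesOver.over
  obtain ⟨n, hn⟩ := exists_pow_maximalIdeal_le_of_mem_minimalPrimes p P hmin
  exact depth_eq_of_flat_of_pow_le _ _ n hn

end

theorem hasSk_of_faithfullyFlat (k : ℕ) (R S : Type u) [CommRing R] [CommRing S] [Algebra R S]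
    [Module.FaithfullyFlat R S] [IsNoetherianRing S] (hS : HasSk k S S) :
    IsNoetherianRing R ∧ HasSk k R R := by
  have hR : IsNoetherianRing R := isNoetherianRing_of_faithfullyFlat R S
  refine ⟨hR, ?_⟩
  rw [hasSk_self_iff] at hS ⊢
  intro p hp
  obtain ⟨P, hP, hPp⟩ := exists_minimalPrimes_liesOver (S := S) p
  have hPprime : P.IsPrime := hP.1.1
  have hlo : P.LiesOver p := ⟨hPp.symm⟩
  have h1 := hS P
  rwa [height_eq_of_mem_minimalPrimes p P hP, depth_localization_eq_of_mem_minimalPrimes p P hP]
    at h1

end Groth.Agent.Helper7.SHens
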